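import Groth.Agent.FibBi.Fibrewise
import Groth.Agent.FibSiteLib.TopLocal

/-!
# Cohomological descent through one point families
-/

set_option autoImplicit false
set_option backward.isDefEq.respectTransparency false
set_option backward.isDefEq.respectTransparency.types false
set_option linter.style.haveILetI false

universe w w' w'' v v' v'' u u' u''

open CategoryTheory CategoryTheory.Limits Opposite TopologicalSpace Pseudofunctor.CoGrothendieck
open Groth.Agent.FibSiteLib Groth.Agent.FibSiteLib.TopFam Groth.Agent.FibBi.FamBC Groth.Agent.FibBi.Fibrewise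

noncomputable section

namespace Groth.Agent.FibBi.DescentPt

section Derived

open DerivedRetract

variable {A : Type u} [Category.{v} A] [Abelian A] [HasDerivedCategory.{w} A]
  {B : Type u'} [Category.{v'} B] [Abelian B] [HasDerivedCategory.{w'} B]
  {C : Type u''} [Category.{v''} C] [Abelian C] [HasDerivedCategory.{w''} C]

/-- Isomorphic exact functors on derived categories. -/
def mapDIso {F G : A ⥤ B} [F.Additive] [PreservesFiniteLimits F] [PreservesFiniteColimits F]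
    [G.Additive] [PreservesFiniteLimits G] [PreservesFiniteColimits G] (i : F ≅ G) :
    F.mapDerivedCategory ≅ G.mapDerivedCategory :=
  haveI : ∀ X : DerivedCategory A, IsIso ((mapD i.hom).app X) := fun X =>
    (NatTrans.isIso_app_iff_of_iso (mapD i.hom) (DerivedCategory.Q.objObjPreimageIso X).symm).2
      (isIso_mapD_app _ _ fun _ => inferInstance)
  haveI : IsIso (mapD i.hom) := NatIso.isIso_of_isIso_app _
  asIso (mapD i.hom)

variable (F : A ⥤ B) [F.Additive] [PreservesFiniteLimits F] [PreservesFiniteColimits F]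
  (G : B ⥤ C) [G.Additive] [PreservesFiniteLimits G] [PreservesFiniteColimits G]
  {H : A ⥤ C} [H.Additive] [PreservesFiniteLimits H] [PreservesFiniteColimits H]

/-- Bijectivity for a composite is bijectivity of the composed maps. -/
lemma bijective_comp_iff (i : F ⋙ G ≅ H) (K L : DerivedCategory A) :
    Function.Bijective (H.mapDerivedCategory.map : (K ⟶ L) → _) ↔
      Function.Bijective fun g : K ⟶ L => G.mapDerivedCategory.map (F.mapDerivedCategory.map g) := by
  haveI := comp_preservesFiniteLimits F G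
  haveI := comp_preservesFiniteColimits F G
  let e : F.mapDerivedCategory ⋙ G.mapDerivedCategory ≅ H.mapDerivedCategory := compIso F G ≪≫ mapDIso i
  have : (H.mapDerivedCategory.map : (K ⟶ L) → _) =
      (e.app K).homCongr (e.app L) ∘ fun g : K ⟶ L => G.mapDerivedCategory.map (F.mapDerivedCategory.map g) := by
    funext g
    exact ((e.inv.naturality_assoc g (e.hom.app L)).symm.trans
      ((congrArg (_ ≫ ·) (e.inv_hom_id_app L)).trans (Category.comp_id _))).symm
  rw [this, Function.Bijective.of_comp_iff' (Equiv.bijective _)]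

/-- A functor with an exact retraction which is also a section is bijective on morphisms. -/
lemma bijective_of_inverse (F' : B ⥤ A) [F'.Additive] [PreservesFiniteLimits F'] [PreservesFiniteColimits F']
    (e₁ : F ⋙ F' ≅ 𝟭 A) (e₂ : F' ⋙ F ≅ 𝟭 B) (K L : DerivedCategory A) :
    Function.Bijective (F.mapDerivedCategory.map : (K ⟶ L) → _) :=
  DerivedRetract.bijective_mapDerivedCategory F F' e₁ (𝟭 B) (𝟙 _) e₂.hom (fun _ => inferInstance)
    (fun _ => inferInstance) K L

variable {F}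

/-- The image of a bounded below object. -/
abbrev img (F : A ⥤ B) [F.Additive] [PreservesFiniteLimits F] [PreservesFiniteColimits F]
    (K : DerivedCategory.Plus A) : DerivedCategory.Plus B :=
  ⟨F.mapDerivedCategory.obj K.obj, by
    obtain ⟨n, hn⟩ := K.property
    exact ⟨n, SiteCmpLib.Devissage.isGE_map F n hn⟩⟩

end Derived

variable {𝒰 𝒯 : Type} [SmallCategory 𝒰] [SmallCategory 𝒯]

/-- The identity change of index. -/
def BCId (W : 𝒰 ⥤ TopCat.{u}) : BC (𝟭 𝒰) W ≅ 𝟭 _ :=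
  NatIso.ofComponents (fun X => Iso.refl _) (fun f => TopFam.hom_ext W _ _
    ((Category.comp_id _).trans (Category.id_comp _).symm))

/-- Inverse image along the identity. -/
def pbId (W : 𝒰 ⥤ TopCat.{u}) : pb (𝟙 W) ≅ 𝟭 (Sh W) :=
  Adjunction.leftAdjointUniq ((TopFam.K (𝟙 W)).sheafAdjunctionContinuous AddCommGrpCat.{u} (Tot W) (Tot W))
    (Adjunction.id.ofNatIsoRight (Functor.sheafPushforwardContinuousId'
      (show TopFam.K (𝟙 W) ≅ 𝟭 (∫ᶜ (topFam W)) from NatIso.ofComponents (fun X => Iso.refl _)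
        (fun f => TopFam.hom_ext W _ _ ((Category.comp_id _).trans (Category.id_comp _).symm)))
      AddCommGrpCat.{u} (Tot W)).symm)

/-- Inverse image along the identity over the identity. -/
def ΦId (W : 𝒰 ⥤ TopCat.{u}) : Φ (𝟭 𝒰) (W := W) (𝟙 W) ≅ 𝟭 (Sh W) :=
  haveI : (BC (𝟭 𝒰) W).IsContinuous (Tot W) (Tot W) := isContinuous_BC (𝟭 𝒰) W
  Functor.isoWhiskerRight
    ((Functor.sheafPushforwardContinuousId' (BCId W) AddCommGrpCat.{u} (Tot W)) :
      res (𝟭 𝒰) W ≅ 𝟭 (Sh W)) (pb (𝟙 W)) ≪≫ Functor.leftUnitor _ ≪≫ pbId W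

/-- Inverse image along an isomorphism of families. -/
abbrev pbInv {W Z : 𝒰 ⥤ TopCat.{u}} (i : Z ≅ W) : pb i.hom ⋙ pb i.inv ≅ 𝟭 (Sh W) :=
  pbComp i.hom i.inv ≪≫ eqToIso (congrArg pb i.inv_hom_id) ≪≫ pbId W

instance lex_pb' {W Z : 𝒰 ⥤ TopCat.{u}} (β : Z ⟶ W) : PreservesFiniteLimits (pb β) :=
  SplitDescent.lex_pullback _ _ (TopFam.K β)

instance rex_pb' {W Z : 𝒰 ⥤ TopCat.{u}} (β : Z ⟶ W) : PreservesFiniteColimits (pb β) :=
  SplitDescent.rex_of_adj ((TopFam.K β).sheafAdjunctionContinuous AddCommGrpCat.{u} (Tot W) (Tot Z))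

instance additive_pb {W Z : 𝒰 ⥤ TopCat.{u}} (β : Z ⟶ W) : (pb β).Additive :=
  haveI : PreservesLimitsOfShape (Discrete WalkingPair) (pb β) := PreservesFiniteLimits.preservesFiniteLimits _
  Functor.additive_of_preserves_binary_products _

/-- Composite of a map of bases with an inverse image over a change of index. -/
def preΦ {W W' : 𝒰 ⥤ TopCat.{u}} (ζ : W' ⟶ W) (ψ : 𝒯 ⥤ 𝒰) {Z : 𝒯 ⥤ TopCat.{u}} (γ : Z ⟶ ψ ⋙ W') :
    pb ζ ⋙ Φ ψ γ ≅ Φ ψ (W := W) (γ ≫ Functor.whiskerLeft ψ ζ) :=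
  haveI := SquareMate.isIso_c (J₁ := Tot (ψ ⋙ W)) (J₂ := Tot W) (J₃ := Tot (ψ ⋙ W')) (J₄ := Tot W')
    (BC ψ W) (TopFam.K (Functor.whiskerLeft ψ ζ)) (TopFam.K ζ) (BC ψ W') (FamBC.w ψ ζ)
  (Functor.associator _ _ _).symm ≪≫
    Functor.isoWhiskerRight (asIso (SquareMate.c (J₁ := Tot (ψ ⋙ W)) (J₂ := Tot W) (J₃ := Tot (ψ ⋙ W'))
      (J₄ := Tot W') (BC ψ W) (TopFam.K (Functor.whiskerLeft ψ ζ)) (TopFam.K ζ) (BC ψ W') (FamBC.w ψ ζ))).symm (pb γ) ≪≫
    Functor.associator _ _ _ ≪≫ Functor.isoWhiskerLeft (res ψ W) (pbComp (Functor.whiskerLeft ψ ζ) γ)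

section Cech

variable {X S : TopCat.{u}} (f : X ⟶ S)

/-- The augmented index category. -/
abbrev E : Type := (WithInitial SimplexCategory)ᵒᵖ

/-- The space as a one point family. -/
abbrev Sf (S : TopCat.{u}) : Pt ⥤ TopCat.{u} := (Functor.const Pt).obj S

/-- The projection to the point. -/
abbrev toE : E ⥤ Pt := (Functor.const E).obj ⟨PUnit.unit⟩

/-- The augmentation of the whole nerve. -/
def αf : FibDesc.cechAug f ⟶ toE ⋙ Sf S where
  app x := (FibDesc.cechAug f).map (TopLocal.toBot x)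
  naturality x y g := by
    refine ((FibDesc.cechAug f).map_comp _ _).symm.trans (Eq.trans ?_ (Category.comp_id _).symm)
    exact congrArg _ (Quiver.Hom.unop_inj (WithInitial.starInitial.hom_ext _ _))

/-- The nerve. -/
abbrev N : SimplexCategoryᵒᵖ ⥤ TopCat.{u} := FibDesc.toAug SimplexCategory ⋙ FibDesc.cechAug f

/-- The augmentation. -/
abbrev aug : N f ⟶ toPt SimplexCategoryᵒᵖ ⋙ Sf S := Functor.whiskerLeft (FibDesc.toAug SimplexCategory) (αf f)

/-- The base point of the augmented index category. -/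
abbrev ptBot : Pt ⥤ E := pt (FibDesc.bot SimplexCategory)

/-- The projection is left adjoint to the base point. -/
def adjToE : BC toE (Sf S) ⊣ (show ∫ᶜ (topFam (Sf S)) ⥤ ∫ᶜ (topFam (toE ⋙ Sf S)) from BC ptBot (toE ⋙ Sf S)) where
  unit :=
    { app := fun X => TopFam.mk (toE ⋙ Sf S) (X := X) (TopLocal.toBot X.base) (fun x hx => hx)
      naturality := fun X Y g => TopFam.hom_ext (toE ⋙ Sf S) _ _ (Quiver.Hom.unop_inj (WithInitial.starInitial.hom_ext _ _)) }
  counit :=
    { app := fun X => TopFam.mk (Sf S) ⟨⟨Subsingleton.elim _ _⟩⟩ (fun x hx => hx)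
      naturality := fun X Y g => TopFam.hom_ext (Sf S) _ _ (Subsingleton.elim _ _) }
  left_triangle_components _ := TopFam.hom_ext (Sf S) _ _ (Subsingleton.elim _ _)
  right_triangle_components _ := TopFam.hom_ext (toE ⋙ Sf S) _ _ (Quiver.Hom.unop_inj (WithInitial.starInitial.hom_ext _ _))

/-- The site of the space. -/
abbrev ιS (S : TopCat.{u}) : (topFam (Sf S)).obj ⟨op ⟨PUnit.unit⟩⟩ ⥤ ∫ᶜ (topFam (Sf S)) := ι (topFam (Sf S)) ⟨PUnit.unit⟩

/-- The base inclusion factors. -/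
def epsIso : ιS S ⋙ (show ∫ᶜ (topFam (Sf S)) ⥤ ∫ᶜ (topFam (toE ⋙ Sf S)) from BC ptBot (toE ⋙ Sf S)) ⋙ TopFam.K (αf f) ≅
    FibDesc.eps (FibDesc.topAug (FibDesc.cechAug f)) :=
  NatIso.ofComponents
    (fun U =>
      { hom := TopFam.mk (FibDesc.cechAug f) (𝟙 (FibDesc.bot SimplexCategory)) (fun x hx => by
          have : (αf f).app (FibDesc.bot SimplexCategory) x = x := by
            show (FibDesc.cechAug f).map (TopLocal.toBot (FibDesc.bot SimplexCategory)) x = x
            rw [show TopLocal.toBot (FibDesc.bot SimplexCategory) = 𝟙 _ from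
              Quiver.Hom.unop_inj (WithInitial.starInitial.hom_ext _ _), CategoryTheory.Functor.map_id]
            rfl
          show (FibDesc.cechAug f).map (𝟙 _) x ∈ (show Opens S from U)
          rw [CategoryTheory.Functor.map_id]
          exact this ▸ hx)
        inv := TopFam.mk (FibDesc.cechAug f) (𝟙 (FibDesc.bot SimplexCategory)) (fun x hx => by
          show (αf f).app (FibDesc.bot SimplexCategory) ((FibDesc.cechAug f).map (𝟙 _) x) ∈ (show Opens S from U)
          rw [CategoryTheory.Functor.map_id]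
          show (FibDesc.cechAug f).map (TopLocal.toBot (FibDesc.bot SimplexCategory)) x ∈ (show Opens S from U)
          rw [show TopLocal.toBot (FibDesc.bot SimplexCategory) = 𝟙 _ from
            Quiver.Hom.unop_inj (WithInitial.starInitial.hom_ext _ _), CategoryTheory.Functor.map_id]
          exact hx)
        hom_inv_id := TopFam.hom_ext (FibDesc.cechAug f) _ _ (Category.id_comp _)
        inv_hom_id := TopFam.hom_ext (FibDesc.cechAug f) _ _ (Category.id_comp _) })
    (fun g => TopFam.hom_ext (FibDesc.cechAug f) _ _ (Quiver.Hom.unop_inj (WithInitial.starInitial.hom_ext _ _)))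

instance : (ιS S).IsContinuous (top (Sf S) ⟨PUnit.unit⟩) (Tot (Sf S)) := isContinuous_ι (TopFam.isPreFibSite _) _
instance : (ιS S).IsCocontinuous (top (Sf S) ⟨PUnit.unit⟩) (Tot (Sf S)) := isCocontinuous_ι (TopFam.isPreFibSite _) _

instance : (ιS S).Faithful where
  map_injective {U V} _ _ _ := Subsingleton.elim (α := (U : Opens S) ⟶ V) _ _

instance : (ιS S).Full where
  map_surjective {U V} k := ⟨homOfLE (X := Opens S) (fun x hx => le_of_hom (Sf S) k hx),
    TopFam.hom_ext (Sf S) _ _ (Subsingleton.elim _ _)⟩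

/-- Extension from the space to the point family. -/
abbrev e (S : TopCat.{u}) : Sheaf (top (Sf S) ⟨PUnit.unit⟩) AddCommGrpCat.{u} ⥤ Sh (Sf S) :=
  SubSite.e (Tot (Sf S)) (top (Sf S) ⟨PUnit.unit⟩) (ιS S)

/-- Restriction of a point family to the space. -/
abbrev rS (S : TopCat.{u}) : Sh (Sf S) ⥤ Sheaf (top (Sf S) ⟨PUnit.unit⟩) AddCommGrpCat.{u} :=
  SubSite.r (Tot (Sf S)) (top (Sf S) ⟨PUnit.unit⟩) (ιS S)

lemma hin' (Z : ∫ᶜ (topFam (Sf S))) : ∃ U, Nonempty (Z ≅ (ιS S).obj U) := by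
  obtain ⟨⟨⟨⟩⟩, U⟩ := Z
  exact ⟨U, ⟨Iso.refl _⟩⟩

instance lex_eS : PreservesFiniteLimits (e S) :=
  SubSite.lex_e (Tot (Sf S)) (top (Sf S) ⟨PUnit.unit⟩) (ιS S) (fun _ => True) (fun Z _ => hin' Z) (fun _ _ _ => trivial)

instance rex_eS : PreservesFiniteColimits (e S) :=
  SplitDescent.rex_of_adj (SubSite.adj (Tot (Sf S)) (top (Sf S) ⟨PUnit.unit⟩) (ιS S))

instance lex_rS : PreservesFiniteLimits (rS S) :=
  SplitDescent.lex_of_adj (SubSite.adj (Tot (Sf S)) (top (Sf S) ⟨PUnit.unit⟩) (ιS S))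

instance rex_rS : PreservesFiniteColimits (rS S) :=
  SplitDescent.rex_of_adj ((ιS S).sheafAdjunctionCocontinuous AddCommGrpCat.{u} (top (Sf S) ⟨PUnit.unit⟩) (Tot (Sf S)))

instance additive_rS (S : TopCat.{u}) : (rS S).Additive where

instance additive_eS (S : TopCat.{u}) : (e S).Additive :=
  (SubSite.adj (Tot (Sf S)) (top (Sf S) ⟨PUnit.unit⟩) (ιS S)).left_adjoint_additive

/-- The point family is the space. -/
def eInv₁ : e S ⋙ rS S ≅ 𝟭 _ :=
  haveI := SubSite.isIso_unit (Tot (Sf S)) (top (Sf S) ⟨PUnit.unit⟩) (ιS S)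
  (asIso (SubSite.adj (Tot (Sf S)) (top (Sf S) ⟨PUnit.unit⟩) (ιS S)).unit).symm

/-- The space is the point family. -/
def eInv₂ : rS S ⋙ e S ≅ 𝟭 (Sh (Sf S)) :=
  haveI : ∀ M, IsIso ((SubSite.adj (Tot (Sf S)) (top (Sf S) ⟨PUnit.unit⟩) (ιS S)).counit.app M) := fun M =>
    SubSite.isIso_counit (Tot (Sf S)) (top (Sf S) ⟨PUnit.unit⟩) (ιS S) (fun _ => True) (fun Z _ => hin' Z)
      (fun _ _ _ => trivial) (fun Z _ => ⟨⊤, (Tot (Sf S)).top_mem Z, fun _ _ _ => Or.inl trivial⟩)
  haveI : IsIso (SubSite.adj (Tot (Sf S)) (top (Sf S) ⟨PUnit.unit⟩) (ιS S)).counit := NatIso.isIso_of_isIso_app _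
  asIso (SubSite.adj (Tot (Sf S)) (top (Sf S) ⟨PUnit.unit⟩) (ιS S)).counit

/-- The inverse image on point families. -/
abbrev θ' : Sh (Sf S) ⥤ Sh (N f) := Φ (toPt SimplexCategoryᵒᵖ) (aug f)

/-- The two inclusions of the family agree. -/
def inclBC : BC (FibDesc.toAug SimplexCategory) (FibDesc.cechAug f) ≅ FibDesc.incl (FibDesc.topAug (FibDesc.cechAug f)) :=
  NatIso.ofComponents (fun X => Iso.refl _) (fun g => TopFam.hom_ext (FibDesc.cechAug f) _ _
    ((Category.comp_id _).trans (Category.id_comp _).symm))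

set_option maxHeartbeats 1600000 in
/-- The inverse image of the augmentation factors through the point family. -/
def θIso : e S ⋙ θ' f ≅ TopLocal.θ (FibDesc.cechAug f) :=
  haveI : (show ∫ᶜ (topFam (Sf S)) ⥤ ∫ᶜ (topFam (toE ⋙ Sf S)) from BC ptBot (toE ⋙ Sf S)).IsContinuous
      (Tot (Sf S)) (Tot (toE ⋙ Sf S)) := isContinuous_BC ptBot (toE ⋙ Sf S)
  haveI := Functor.isContinuous_comp
    (show ∫ᶜ (topFam (Sf S)) ⥤ ∫ᶜ (topFam (toE ⋙ Sf S)) from BC ptBot (toE ⋙ Sf S)) (TopFam.K (αf f))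
    (Tot (Sf S)) (Tot (toE ⋙ Sf S)) (Tot (FibDesc.cechAug f))
  haveI := Functor.isContinuous_comp (ιS S)
    ((show ∫ᶜ (topFam (Sf S)) ⥤ ∫ᶜ (topFam (toE ⋙ Sf S)) from BC ptBot (toE ⋙ Sf S)) ⋙ TopFam.K (αf f))
    (top (Sf S) ⟨PUnit.unit⟩) (Tot (Sf S)) (Tot (FibDesc.cechAug f))
  haveI : (FibDesc.eps (FibDesc.topAug (FibDesc.cechAug f))).IsContinuous (top (Sf S) ⟨PUnit.unit⟩)
      (Tot (FibDesc.cechAug f)) := Functor.isContinuous_of_iso (epsIso f) _ _
  haveI : (FibDesc.incl (FibDesc.topAug (FibDesc.cechAug f))).IsContinuous (Tot (N f)) (Tot (FibDesc.cechAug f)) :=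
    Functor.isContinuous_of_iso (inclBC f) _ _
  haveI : (BC (FibDesc.toAug SimplexCategory ⋙ toE) (Sf S)).IsContinuous
      (Tot (FibDesc.toAug SimplexCategory ⋙ toE ⋙ Sf S)) (Tot (Sf S)) := isContinuous_BC _ _
  haveI := SquareMate.isIso_c (J₁ := Tot (FibDesc.toAug SimplexCategory ⋙ toE ⋙ Sf S)) (J₂ := Tot (toE ⋙ Sf S))
    (J₃ := Tot (N f)) (J₄ := Tot (FibDesc.cechAug f))
    (BC (FibDesc.toAug SimplexCategory) (toE ⋙ Sf S)) (TopFam.K (aug f)) (TopFam.K (αf f))
    (BC (FibDesc.toAug SimplexCategory) (FibDesc.cechAug f)) (FamBC.w (FibDesc.toAug SimplexCategory) (αf f))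
  let adjA := ((SubSite.adj (Tot (Sf S)) (top (Sf S) ⟨PUnit.unit⟩) (ιS S)).comp
    (Adjunction.sheafPushforwardContinuous (E := AddCommGrpCat.{u}) (adjToE (S := S)) (Tot (toE ⋙ Sf S)) (Tot (Sf S)))).comp
    ((TopFam.K (αf f)).sheafAdjunctionContinuous AddCommGrpCat.{u} (Tot (toE ⋙ Sf S)) (Tot (FibDesc.cechAug f)))
  let epsE : (e S ⋙ res toE (Sf S)) ⋙ pb (αf f) ≅
      (FibDesc.eps (FibDesc.topAug (FibDesc.cechAug f))).sheafPullback AddCommGrpCat.{u} (top (Sf S) ⟨PUnit.unit⟩)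
        (Tot (FibDesc.cechAug f)) :=
    Adjunction.leftAdjointUniq adjA
      (((FibDesc.eps (FibDesc.topAug (FibDesc.cechAug f))).sheafAdjunctionContinuous AddCommGrpCat.{u}
        (top (Sf S) ⟨PUnit.unit⟩) (Tot (FibDesc.cechAug f))).ofNatIsoRight
        ((Functor.sheafPushforwardContinuousComp' (epsIso f) AddCommGrpCat.{u} (top (Sf S) ⟨PUnit.unit⟩) (Tot (Sf S))
          (Tot (FibDesc.cechAug f))).symm ≪≫
          Functor.isoWhiskerRight (Functor.sheafPushforwardContinuousComp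
            (show ∫ᶜ (topFam (Sf S)) ⥤ ∫ᶜ (topFam (toE ⋙ Sf S)) from BC ptBot (toE ⋙ Sf S)) (TopFam.K (αf f))
            AddCommGrpCat.{u} (Tot (Sf S)) (Tot (toE ⋙ Sf S)) (Tot (FibDesc.cechAug f))).symm _ ≪≫
          Functor.associator _ _ _))
  Functor.isoWhiskerLeft (e S) (Functor.isoWhiskerRight
      ((Functor.sheafPushforwardContinuousComp' (BCComp toE (Sf S) (FibDesc.toAug SimplexCategory)) AddCommGrpCat.{u}
        (Tot (FibDesc.toAug SimplexCategory ⋙ toE ⋙ Sf S)) (Tot (toE ⋙ Sf S)) (Tot (Sf S))).symm :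
        res (toPt SimplexCategoryᵒᵖ) (Sf S) ≅ res toE (Sf S) ⋙ res (FibDesc.toAug SimplexCategory) (toE ⋙ Sf S))
      (pb (aug f)) ≪≫ Functor.associator _ _ _ ≪≫
    Functor.isoWhiskerLeft (res toE (Sf S)) (asIso (SquareMate.c
      (J₁ := Tot (FibDesc.toAug SimplexCategory ⋙ toE ⋙ Sf S)) (J₂ := Tot (toE ⋙ Sf S))
      (J₃ := Tot (N f)) (J₄ := Tot (FibDesc.cechAug f))
      (BC (FibDesc.toAug SimplexCategory) (toE ⋙ Sf S)) (TopFam.K (aug f)) (TopFam.K (αf f))
      (BC (FibDesc.toAug SimplexCategory) (FibDesc.cechAug f)) (FamBC.w (FibDesc.toAug SimplexCategory) (αf f))))) ≪≫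
    (Functor.associator _ _ _).symm ≪≫ (Functor.associator _ _ _).symm ≪≫
    Functor.isoWhiskerRight epsE (res (FibDesc.toAug SimplexCategory) (FibDesc.cechAug f)) ≪≫
    Functor.isoWhiskerLeft _
      (Functor.sheafPushforwardContinuousIso (inclBC f) AddCommGrpCat.{u} (Tot (N f)) (Tot (FibDesc.cechAug f)))

attribute [local instance] HasDerivedCategory.standard

instance additive_θ : (TopLocal.θ (FibDesc.cechAug f)).Additive :=
  (FibDesc.adj (FibDesc.topAug (FibDesc.cechAug f)) (FibDesc.topAugTop (FibDesc.cechAug f))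
    AddCommGrpCat.{u}).left_adjoint_additive

lemma rex_θ : PreservesFiniteColimits (TopLocal.θ (FibDesc.cechAug f)) :=
  SplitDescent.rex_of_adj (FibDesc.adj (FibDesc.topAug (FibDesc.cechAug f)) (FibDesc.topAugTop (FibDesc.cechAug f))
    AddCommGrpCat.{u})

/-- Cohomological descent gives full faithfulness on point families. -/
theorem bijective_θ' (h : FibDesc.IsCohDescentMap f) (K L : DerivedCategory.Plus (Sh (Sf S))) :
    Function.Bijective ((θ' f).mapDerivedCategory.map : (K.obj ⟶ L.obj) → _) := by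
  obtain ⟨_, _, _, _, _, _, h⟩ := h
  haveI := additive_rS S
  haveI := additive_eS S
  haveI := rex_rS (S := S)
  haveI := lex_rS (S := S)
  haveI := rex_eS (S := S)
  haveI := lex_eS (S := S)
  haveI := additive_θ f
  haveI := rex_θ f
  haveI := TopLocal.lex_θ (FibDesc.cechAug f)
  have h1 := (bijective_comp_iff (e S) (θ' f) (θIso f) (img (rS S) K).obj (img (rS S) L).obj).1
    (h (img (rS S) K) (img (rS S) L))
  have h2 : Function.Bijective ((θ' f).mapDerivedCategory.map :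
      ((e S).mapDerivedCategory.obj (img (rS S) K).obj ⟶ (e S).mapDerivedCategory.obj (img (rS S) L).obj) → _) :=
    (Function.Bijective.of_comp_iff _ (bijective_of_inverse (e S) (rS S) eInv₁ eInv₂ _ _)).1 h1
  haveI := comp_preservesFiniteLimits (rS S) (e S)
  haveI := comp_preservesFiniteColimits (rS S) (e S)
  let i : (rS S).mapDerivedCategory ⋙ (e S).mapDerivedCategory ≅ 𝟭 _ :=
    DerivedRetract.compIso (rS S) (e S) ≪≫ mapDIso eInv₂ ≪≫ DerivedRetract.idIso _
  exact DerivedFibrewise.bijective_conj (i.app K.obj) (i.app L.obj) h2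

/-- Full faithfulness on point families gives cohomological descent. -/
theorem isCohDescentMap (h : ∀ K L : DerivedCategory.Plus (Sh (Sf S)),
    Function.Bijective ((θ' f).mapDerivedCategory.map : (K.obj ⟶ L.obj) → _)) : FibDesc.IsCohDescentMap f :=
  ⟨inferInstance, inferInstance, inferInstance, inferInstance, fun _ => inferInstance, TopLocal.lex_θ _, fun K L =>
    haveI := additive_θ f
    haveI := rex_θ f
    haveI := TopLocal.lex_θ (FibDesc.cechAug f)
    (bijective_comp_iff (e S) (θ' f) (θIso f) K.obj L.obj).2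
      ((h (img (e S) K) (img (e S) L)).comp (bijective_of_inverse (e S) (rS S) eInv₁ eInv₂ K.obj L.obj))⟩

end Cech

end Groth.Agent.FibBi.DescentPt
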