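import Groth.Agent.FibBi.DescentPt
import Groth.Agent.FibSiteLib.CechSection
import Mathlib.Topology.Category.TopCat.Limits.Pullbacks

/-!
# Cohomological descent through the fibre product of two Čech nerves
-/

set_option autoImplicit false
set_option backward.isDefEq.respectTransparency false
set_option backward.isDefEq.respectTransparency.types false
set_option linter.style.haveILetI false

universe u

open CategoryTheory CategoryTheory.Limits Opposite
open Groth.Agent.FibSiteLib Groth.Agent.FibBi.FamBC Groth.Agent.FibBi.Fibrewise Groth.Agent.FibBi.DescentPt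

noncomputable section

namespace Groth.Agent.FibBi.CechBi

section Bij

attribute [local instance] HasDerivedCategory.standard

variable {𝒯 𝒰 𝒮 : Type} [SmallCategory 𝒯] [SmallCategory 𝒰] [SmallCategory 𝒮]
  {W : 𝒰 ⥤ TopCat.{u}} {Z : 𝒯 ⥤ TopCat.{u}}

/-- Full faithfulness of the inverse image on bounded below objects. -/
def Bij (ψ : 𝒯 ⥤ 𝒰) (γ : Z ⟶ ψ ⋙ W) : Prop :=
  ∀ K L : DerivedCategory.Plus (Sh W),
    Function.Bijective ((Φ ψ γ).mapDerivedCategory.map : (K.obj ⟶ L.obj) → _)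

lemma Bij.congr {ψ : 𝒯 ⥤ 𝒰} {γ γ' : Z ⟶ ψ ⋙ W} (h : Bij ψ γ) (e : γ = γ') : Bij ψ γ' := e ▸ h

lemma Bij.comp {ψ : 𝒯 ⥤ 𝒰} {β : Z ⟶ ψ ⋙ W} (hβ : Bij ψ β) {χ : 𝒮 ⥤ 𝒯} {Y : 𝒮 ⥤ TopCat.{u}}
    {γ : Y ⟶ χ ⋙ Z} (hγ : Bij χ γ) : Bij (W := W) (χ ⋙ ψ) (γ ≫ Functor.whiskerLeft χ β) := fun K L =>
  (bijective_comp_iff (Φ ψ β) (Φ χ γ) (ΦComp ψ β χ γ) K.obj L.obj).2
    ((hγ (img (Φ ψ β) K) (img (Φ ψ β) L)).comp (hβ K L))

lemma Bij.of_comp {ψ : 𝒯 ⥤ 𝒰} {β : Z ⟶ ψ ⋙ W} {χ : 𝒮 ⥤ 𝒯} {Y : 𝒮 ⥤ TopCat.{u}}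
    {γ : Y ⟶ χ ⋙ Z} (h : Bij (W := W) (χ ⋙ ψ) (γ ≫ Functor.whiskerLeft χ β)) (hγ : Bij χ γ) : Bij ψ β :=
  fun K L => (Function.Bijective.of_comp_iff' (hγ (img (Φ ψ β) K) (img (Φ ψ β) L)) _).1
    ((bijective_comp_iff (Φ ψ β) (Φ χ γ) (ΦComp ψ β χ γ) K.obj L.obj).1 (h K L))

lemma bij_id (W : 𝒰 ⥤ TopCat.{u}) : Bij (𝟭 𝒰) (W := W) (𝟙 W) := fun K L =>
  bijective_of_inverse (Φ (𝟭 𝒰) (W := W) (𝟙 W)) (Φ (𝟭 𝒰) (W := W) (𝟙 W))
    (NatIso.hcomp (ΦId W) (ΦId W) ≪≫ Functor.leftUnitor _)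
    (NatIso.hcomp (ΦId W) (ΦId W) ≪≫ Functor.leftUnitor _) K.obj L.obj

lemma Bij.of_inv {σ : 𝒯 ⥤ 𝒰} {ζ : Z ⟶ σ ⋙ W} {τ : 𝒰 ⥤ 𝒯} {ξ : W ⟶ τ ⋙ Z}
    (h₁ : Bij (W := W) (τ ⋙ σ) (ξ ≫ Functor.whiskerLeft τ ζ))
    (h₂ : Bij (W := Z) (σ ⋙ τ) (ζ ≫ Functor.whiskerLeft σ ξ)) : Bij σ ζ := by
  intro K L
  have H₁ := (bijective_comp_iff (Φ σ ζ) (Φ τ ξ) (ΦComp σ ζ τ ξ) K.obj L.obj).1 (h₁ K L)
  refine ⟨Function.Injective.of_comp H₁.1, fun k => ?_⟩
  obtain ⟨g, hg⟩ := H₁.2 ((Φ τ ξ).mapDerivedCategory.map k)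
  refine ⟨g, ?_⟩
  exact (Function.Injective.of_comp ((bijective_comp_iff (Φ τ ξ) (Φ σ ζ) (ΦComp τ ξ σ ζ)
    ((Φ σ ζ).mapDerivedCategory.obj K.obj) ((Φ σ ζ).mapDerivedCategory.obj L.obj)).1
      (h₂ (img (Φ σ ζ) K) (img (Φ σ ζ) L))).1) hg

lemma bij_of_iso {W' : 𝒰 ⥤ TopCat.{u}} (i : W' ≅ W) : Bij (𝟭 𝒰) (W := W) (Z := W') i.hom := by
  refine Bij.of_inv (τ := 𝟭 𝒰) (ξ := i.inv) ?_ ?_
  · exact Bij.congr (bij_id W) i.inv_hom_id.symm
  · exact Bij.congr (bij_id W') i.hom_inv_id.symm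

end Bij

section Nerve

variable {A Y : TopCat.{u}} (a : A ⟶ Y)

/-- A projection of a term of the nerve. -/
def P (k : SimplexCategoryᵒᵖ) (i : Fin (k.unop.len + 1)) : (N a).obj k ⟶ A :=
  WidePullback.π (fun _ : Fin (k.unop.len + 1) => a) i

/-- A map into a term of the nerve. -/
def L {T : TopCat.{u}} (k : SimplexCategoryᵒᵖ) (e : T ⟶ Y) (c : Fin (k.unop.len + 1) → (T ⟶ A))
    (hc : ∀ i, c i ≫ a = e) : T ⟶ (N a).obj k :=
  WidePullback.lift (objs := fun _ : Fin (k.unop.len + 1) => A) (arrows := fun _ => a) e c hc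

@[reassoc (attr := simp)]
lemma P_arrow (k : SimplexCategoryᵒᵖ) (i : Fin (k.unop.len + 1)) : P a k i ≫ a = (aug a).app k :=
  WidePullback.π_arrow (fun _ : Fin (k.unop.len + 1) => a) i

@[reassoc (attr := simp)]
lemma L_P {T : TopCat.{u}} (k : SimplexCategoryᵒᵖ) (e : T ⟶ Y) (c : Fin (k.unop.len + 1) → (T ⟶ A))
    (hc : ∀ i, c i ≫ a = e) (i : Fin (k.unop.len + 1)) : L a k e c hc ≫ P a k i = c i :=
  WidePullback.lift_π (fun _ : Fin (k.unop.len + 1) => a) e c hc i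

@[reassoc (attr := simp)]
lemma L_aug {T : TopCat.{u}} (k : SimplexCategoryᵒᵖ) (e : T ⟶ Y) (c : Fin (k.unop.len + 1) → (T ⟶ A))
    (hc : ∀ i, c i ≫ a = e) : L a k e c hc ≫ (aug a).app k = e :=
  WidePullback.lift_base (fun _ : Fin (k.unop.len + 1) => a) e c hc

lemma N_ext {T : TopCat.{u}} {k : SimplexCategoryᵒᵖ} {f g : T ⟶ (N a).obj k}
    (h : ∀ i, f ≫ P a k i = g ≫ P a k i) (h' : f ≫ (aug a).app k = g ≫ (aug a).app k) : f = g :=
  WidePullback.hom_ext (fun _ : Fin (k.unop.len + 1) => a) f g h h'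

@[reassoc (attr := simp)]
lemma N_map_P {k k' : SimplexCategoryᵒᵖ} (g : k ⟶ k') (i : Fin (k'.unop.len + 1)) :
    (N a).map g ≫ P a k' i = P a k (g.unop.toOrderHom i) :=
  WidePullback.lift_π (fun _ : Fin (k'.unop.len + 1) => a) _ _ _ _

@[reassoc (attr := simp)]
lemma N_map_aug {k k' : SimplexCategoryᵒᵖ} (g : k ⟶ k') : (N a).map g ≫ (aug a).app k' = (aug a).app k :=
  ((aug a).naturality g).trans (Category.comp_id _)

variable {A' : TopCat.{u}} {a} {a' : A' ⟶ Y} (e : A ≅ A') (he : e.hom ≫ a' = a)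

/-- Isomorphic maps have isomorphic nerves. -/
def NIso : N a ≅ N a' :=
  NatIso.ofComponents (fun k =>
    { hom := L a' k ((aug a).app k) (fun i => P a k i ≫ e.hom) (fun i => by rw [Category.assoc, he, P_arrow])
      inv := L a k ((aug a').app k) (fun i => P a' k i ≫ e.inv)
        (fun i => by rw [Category.assoc, ← he, Iso.inv_hom_id_assoc, P_arrow])
      hom_inv_id := by
        refine N_ext a (fun i => ?_) ?_
        · rw [Category.assoc, L_P, L_P_assoc, Category.assoc, Iso.hom_inv_id, Category.comp_id, Category.id_comp]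
        · rw [Category.assoc, L_aug, L_aug, Category.id_comp]
      inv_hom_id := by
        refine N_ext a' (fun i => ?_) ?_
        · rw [Category.assoc, L_P, L_P_assoc, Category.assoc, Iso.inv_hom_id, Category.comp_id, Category.id_comp]
        · rw [Category.assoc, L_aug, L_aug, Category.id_comp] })
    (fun {k k'} g => by
      refine N_ext a' (fun i => ?_) ?_
      · show ((N a).map g ≫ L a' k' ((aug a).app k') (fun i => P a k' i ≫ e.hom) _) ≫ P a' k' i =
          (L a' k ((aug a).app k) (fun i => P a k i ≫ e.hom) _ ≫ (N a').map g) ≫ P a' k' i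
        rw [Category.assoc, L_P, ← Category.assoc, N_map_P, Category.assoc, N_map_P, L_P]
      · show ((N a).map g ≫ L a' k' ((aug a).app k') (fun i => P a k' i ≫ e.hom) _) ≫ (aug a').app k' =
          (L a' k ((aug a).app k) (fun i => P a k i ≫ e.hom) _ ≫ (N a').map g) ≫ (aug a').app k'
        rw [Category.assoc, L_aug, N_map_aug, Category.assoc, N_map_aug, L_aug])

lemma NIso_aug : (NIso e he).hom ≫ aug a' = aug a :=
  NatTrans.ext (funext fun k => L_aug a' _ _ _ _)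

attribute [local instance] HasDerivedCategory.standard

lemma bij_aug (h : FibDesc.IsCohDescentMap a) : Bij (toPt SimplexCategoryᵒᵖ) (W := Sf Y) (aug a) :=
  bijective_θ' a h

include he in
/-- Cohomological descent is invariant under isomorphism over the base. -/
theorem isCohDescentMap_iso (h : FibDesc.IsCohDescentMap a') : FibDesc.IsCohDescentMap a :=
  isCohDescentMap a (Bij.congr (ψ := toPt SimplexCategoryᵒᵖ)
    ((bij_aug h).comp (bij_of_iso (NIso e he))) (NIso_aug e he))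

end Nerve

section Bisimplicial

variable {A B S : TopCat.{u}} (a : A ⟶ S) (b : B ⟶ S)

/-- The fibre product of two nerves. -/
@[simps]
def Z : SimplexCategoryᵒᵖ × SimplexCategoryᵒᵖ ⥤ TopCat.{u} where
  obj p := pullback ((aug a).app p.1) ((aug b).app p.2)
  map {p q} g := pullback.lift (pullback.fst ((aug a).app p.1) ((aug b).app p.2) ≫ (N a).map g.1)
    (pullback.snd ((aug a).app p.1) ((aug b).app p.2) ≫ (N b).map g.2)
    (by rw [Category.assoc, Category.assoc, N_map_aug, N_map_aug]; exact pullback.condition)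
  map_id p := by
    refine pullback.hom_ext ?_ ?_
    · simp only [pullback.lift_fst, prod_id_fst, CategoryTheory.Functor.map_id, Category.comp_id, Category.id_comp]
    · simp only [pullback.lift_snd, prod_id_snd, CategoryTheory.Functor.map_id, Category.comp_id, Category.id_comp]
  map_comp g h := by
    refine pullback.hom_ext ?_ ?_
    · simp only [pullback.lift_fst, prod_comp_fst, CategoryTheory.Functor.map_comp, Category.assoc]
      rw [pullback.lift_fst_assoc, Category.assoc]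
    · simp only [pullback.lift_snd, prod_comp_snd, CategoryTheory.Functor.map_comp, Category.assoc]
      rw [pullback.lift_snd_assoc, Category.assoc]

variable {a b}

/-- The first projection of a term. -/
def p₁ (p : SimplexCategoryᵒᵖ × SimplexCategoryᵒᵖ) : (Z a b).obj p ⟶ (N a).obj p.1 := pullback.fst _ _

/-- The second projection of a term. -/
def p₂ (p : SimplexCategoryᵒᵖ × SimplexCategoryᵒᵖ) : (Z a b).obj p ⟶ (N b).obj p.2 := pullback.snd _ _

/-- A map into a term. -/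
def Zl {T : TopCat.{u}} (p : SimplexCategoryᵒᵖ × SimplexCategoryᵒᵖ) (x : T ⟶ (N a).obj p.1) (y : T ⟶ (N b).obj p.2)
    (h : x ≫ (aug a).app p.1 = y ≫ (aug b).app p.2) : T ⟶ (Z a b).obj p :=
  pullback.lift x y h

@[reassoc]
lemma Zl_p₁ {T : TopCat.{u}} (p : SimplexCategoryᵒᵖ × SimplexCategoryᵒᵖ) (x : T ⟶ (N a).obj p.1)
    (y : T ⟶ (N b).obj p.2) (h : x ≫ (aug a).app p.1 = y ≫ (aug b).app p.2) : Zl p x y h ≫ p₁ p = x :=
  pullback.lift_fst _ _ _

@[reassoc]
lemma Zl_p₂ {T : TopCat.{u}} (p : SimplexCategoryᵒᵖ × SimplexCategoryᵒᵖ) (x : T ⟶ (N a).obj p.1)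
    (y : T ⟶ (N b).obj p.2) (h : x ≫ (aug a).app p.1 = y ≫ (aug b).app p.2) : Zl p x y h ≫ p₂ p = y :=
  pullback.lift_snd _ _ _

lemma Z_ext {T : TopCat.{u}} {p : SimplexCategoryᵒᵖ × SimplexCategoryᵒᵖ} {f g : T ⟶ (Z a b).obj p}
    (h₁ : f ≫ p₁ p = g ≫ p₁ p) (h₂ : f ≫ p₂ p = g ≫ p₂ p) : f = g :=
  pullback.hom_ext h₁ h₂

lemma p_cond (p : SimplexCategoryᵒᵖ × SimplexCategoryᵒᵖ) :
    p₁ (a := a) (b := b) p ≫ (aug a).app p.1 = p₂ p ≫ (aug b).app p.2 :=
  pullback.condition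

@[reassoc]
lemma Z_map_p₁ {p q : SimplexCategoryᵒᵖ × SimplexCategoryᵒᵖ} (g : p ⟶ q) :
    (Z a b).map g ≫ p₁ q = p₁ p ≫ (N a).map g.1 :=
  pullback.lift_fst _ _ _

@[reassoc]
lemma Z_map_p₂ {p q : SimplexCategoryᵒᵖ × SimplexCategoryᵒᵖ} (g : p ⟶ q) :
    (Z a b).map g ≫ p₂ q = p₂ p ≫ (N b).map g.2 :=
  pullback.lift_snd _ _ _

variable (a b)

/-- The second projection. -/
def β : Z a b ⟶ π ⋙ N b where
  app p := p₂ p
  naturality p q g := Z_map_p₂ g

/-- The augmentation of the fibre product. -/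
abbrev augZ : Z a b ⟶ (π ⋙ toPt SimplexCategoryᵒᵖ) ⋙ Sf S := β a b ≫ Functor.whiskerLeft π (aug b)

/-- The term of a column as a term of the nerve of a base change. -/
def colApp (n k : SimplexCategoryᵒᵖ) : (Z a b).obj (k, n) ≅ (N (pullback.snd a ((aug b).app n))).obj k where
  hom := L _ k (p₂ (k, n))
    (fun i => pullback.lift (p₁ (k, n) ≫ P a k i) (p₂ (k, n)) (by rw [Category.assoc, P_arrow]; exact p_cond _))
    (fun i => pullback.lift_snd _ _ _)
  inv := Zl (k, n)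
    (L a k ((aug (pullback.snd a ((aug b).app n))).app k ≫ (aug b).app n)
      (fun i => P (pullback.snd a ((aug b).app n)) k i ≫ pullback.fst a ((aug b).app n))
      (fun i => by rw [Category.assoc, pullback.condition, ← Category.assoc, P_arrow]))
    ((aug (pullback.snd a ((aug b).app n))).app k) (L_aug a _ _ _ _)
  hom_inv_id := by
    refine Z_ext ?_ ?_
    · rw [Category.assoc, Zl_p₁, Category.id_comp]
      refine N_ext a (fun i => ?_) ?_
      · rw [Category.assoc, L_P, ← Category.assoc, L_P, pullback.lift_fst]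
      · rw [Category.assoc, L_aug, ← Category.assoc, L_aug, p_cond]
    · rw [Category.assoc, Zl_p₂, L_aug, Category.id_comp]
  inv_hom_id := by
    refine N_ext _ (fun i => ?_) ?_
    · rw [Category.assoc, L_P, Category.id_comp]
      refine pullback.hom_ext ?_ ?_
      · rw [Category.assoc, pullback.lift_fst, ← Category.assoc, Zl_p₁, L_P]
      · rw [Category.assoc, pullback.lift_snd, Zl_p₂, P_arrow]
    · rw [Category.assoc, L_aug, Zl_p₂, Category.id_comp]

/-- The nerve of a base change is a column. -/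
def colIso (n : SimplexCategoryᵒᵖ) : col n ⋙ Z a b ≅ N (pullback.snd a ((aug b).app n)) :=
  NatIso.ofComponents (fun k => colApp a b n k) (fun {k k'} g => by
    show (Z a b).map (((g, 𝟙 n) : (k, n) ⟶ (k', n))) ≫ (colApp a b n k').hom = (colApp a b n k).hom ≫ _
    refine N_ext _ (fun i => ?_) ?_
    · rw [Category.assoc, Category.assoc, N_map_P]; unfold colApp; rw [L_P, L_P]
      refine pullback.hom_ext ?_ ?_
      · rw [Category.assoc, pullback.lift_fst, pullback.lift_fst, Z_map_p₁_assoc]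
        exact congrArg (_ ≫ ·) (N_map_P a g i)
      · rw [Category.assoc, pullback.lift_snd, pullback.lift_snd, Z_map_p₂, CategoryTheory.Functor.map_id,
          Category.comp_id]
    · rw [Category.assoc, Category.assoc, N_map_aug]; unfold colApp; rw [L_aug, L_aug, Z_map_p₂, CategoryTheory.Functor.map_id,
        Category.comp_id])

/-- A point of a nerve as a one point family. -/
def ptIso (n : SimplexCategoryᵒᵖ) : Sf ((N b).obj n) ≅ pt n ⋙ N b :=
  NatIso.ofComponents (fun _ => Iso.refl _) (fun g => by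
    show 𝟙 _ ≫ 𝟙 _ = 𝟙 _ ≫ (N b).map (𝟙 n)
    rw [CategoryTheory.Functor.map_id])

attribute [local instance] HasDerivedCategory.standard

/-- Descent of the base changes gives descent along the second projection. -/
theorem bij_β (h : ∀ n, FibDesc.IsCohDescentMap (pullback.snd a ((aug b).app n))) :
    Bij π (W := N b) (β a b) := by
  refine Fibrewise.bijective (N b) (β a b) fun n => ?_
  have h₁ := (bij_of_iso (ptIso b n)).comp (bij_aug (h n))
  refine Bij.congr (ψ := toPt SimplexCategoryᵒᵖ) (h₁.comp (bij_of_iso (colIso a b n))) ?_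
  refine NatTrans.ext (funext fun k => ?_)
  refine (congrArg ((colIso a b n).hom.app k ≫ ·) (Category.comp_id _)).trans ?_
  exact L_aug _ _ _ _ _

/-- The exchange of the indices. -/
abbrev σ : SimplexCategoryᵒᵖ × SimplexCategoryᵒᵖ ⥤ SimplexCategoryᵒᵖ × SimplexCategoryᵒᵖ := CategoryTheory.Prod.swap _ _

/-- The exchange of the factors. -/
def sw : Z b a ⟶ σ ⋙ Z a b where
  app p := Zl (σ.obj p) (p₂ p) (p₁ p) (p_cond p).symm
  naturality p q g := by
    show (Z b a).map g ≫ Zl (σ.obj q) (p₂ q) (p₁ q) _ = Zl (σ.obj p) (p₂ p) (p₁ p) _ ≫ (Z a b).map (σ.map g)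
    refine Z_ext ?_ ?_
    · rw [Category.assoc, Category.assoc, Zl_p₁, Z_map_p₁, Zl_p₁_assoc, Z_map_p₂]
      rfl
    · rw [Category.assoc, Category.assoc, Zl_p₂, Z_map_p₂, Zl_p₂_assoc, Z_map_p₁]
      rfl

lemma sw_sw : sw a b ≫ Functor.whiskerLeft σ (sw b a) = (show Z b a ⟶ (σ ⋙ σ) ⋙ Z b a from 𝟙 (Z b a)) := by
  refine NatTrans.ext (funext fun p => ?_)
  show Zl (σ.obj p) (p₂ p) (p₁ p) _ ≫ Zl (a := b) (b := a) p (p₂ (σ.obj p)) (p₁ (σ.obj p)) _ = 𝟙 _
  refine Z_ext ?_ ?_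
  · rw [Category.assoc, Zl_p₁, Category.id_comp]
    exact Zl_p₂ _ _ _ _
  · rw [Category.assoc, Zl_p₂, Category.id_comp]
    exact Zl_p₁ _ _ _ _

lemma bij_sw : Bij σ (W := Z a b) (sw a b) := by
  refine Bij.of_inv (τ := σ) (ξ := sw b a) ?_ ?_
  · exact Bij.congr (ψ := σ ⋙ σ) (bij_id (Z a b)) (sw_sw b a).symm
  · exact Bij.congr (ψ := σ ⋙ σ) (bij_id (Z b a)) (sw_sw a b).symm

end Bisimplicial

/-- A map is of cohomological descent if its base changes to a nerve are and the nerve is universally so. -/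
theorem core {X Y S : TopCat.{u}} (f : X ⟶ S) (v : Y ⟶ S) (hv : FibDesc.IsCohDescentMap v)
    (hv' : ∀ k, FibDesc.IsCohDescentMap (pullback.snd v ((aug f).app k)))
    (h : ∀ n, FibDesc.IsCohDescentMap (pullback.snd f ((aug v).app n))) : FibDesc.IsCohDescentMap f := by
  refine isCohDescentMap f (Bij.of_comp (W := Sf S) ?_ (bij_β v f hv'))
  refine Bij.congr (ψ := π ⋙ toPt SimplexCategoryᵒᵖ)
    (((bij_aug hv).comp (bij_β f v h)).comp (bij_sw f v)) ?_
  refine NatTrans.ext (funext fun p => ?_)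
  show Zl (σ.obj p) (p₂ p) (p₁ p) _ ≫ p₂ (σ.obj p) ≫ (aug v).app p.1 = p₂ p ≫ (aug f).app p.2
  exact (Zl_p₂_assoc _ _ _ _ _).trans (p_cond p)

end Groth.Agent.FibBi.CechBi
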