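import Groth.Agent.FibBi.DerivedUnit
import Groth.Agent.H9Misc.PlusRB
import Groth.Agent.KFlatLib.PsiC
import Mathlib.CategoryTheory.Preadditive.Injective.Preserves

/-!
# Full faithfulness on bounded below derived categories can be checked fibrewise
-/

set_option autoImplicit false
set_option linter.style.haveILetI false

universe w w' wf wf' v v' vf vf' u u' uf uf' t

open CategoryTheory CategoryTheory.Limits

noncomputable section

namespace Groth.Agent.FibBi.DerivedFibrewise

local notation "q" => HomotopyCategory.quotient _ (ComplexShape.up ℤ)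

section Htpy

variable {A : Type u} [Category.{v} A] [Abelian A] {B : Type u'} [Category.{v'} B] [Abelian B]

lemma isStrictlyGE_map (F : A ⥤ B) [F.Additive] (K : CochainComplex A ℤ) (d : ℤ) [K.IsStrictlyGE d] :
    CochainComplex.IsStrictlyGE ((F.mapHomologicalComplex (ComplexShape.up ℤ)).obj K) d :=
  (CochainComplex.isStrictlyGE_iff _ _).2 fun i hi => F.map_isZero (K.isZero_of_isStrictlyGE d i hi)

/-- A transformation of composites on a complex. -/
def htpyApp {F G : A ⥤ B} [F.Additive] [G.Additive] (α : F ⟶ G) (K : CochainComplex A ℤ) :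
    (F.mapHomologicalComplex (ComplexShape.up ℤ)).obj K ⟶ (G.mapHomologicalComplex (ComplexShape.up ℤ)).obj K :=
  (NatTrans.mapHomologicalComplex α (ComplexShape.up ℤ)).app K

end Htpy

variable {A : Type u} [Category.{v} A] [Abelian A] [HasDerivedCategory.{w} A]
  {B : Type u'} [Category.{v'} B] [Abelian B] [HasDerivedCategory.{w'} B]

lemma exists_complex (K : DerivedCategory.Plus A) :
    ∃ (K₀ : CochainComplex A ℤ) (d : ℤ), K₀.IsStrictlyGE d ∧
      Nonempty (DerivedCategory.Qh.obj ((q).obj K₀) ≅ K.obj) := by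
  obtain ⟨n, hn⟩ := K.property
  obtain ⟨K₀, e, h⟩ := hn
  exact ⟨K₀, n, h, ⟨(DerivedCategory.quotientCompQhIso A).app K₀ ≪≫ e.symm⟩⟩

lemma bijective_conj {θ : A ⥤ B} [θ.Additive] [PreservesFiniteLimits θ] [PreservesFiniteColimits θ]
    {X X' Y Y' : DerivedCategory A} (e : X ≅ X') (e' : Y ≅ Y')
    (h : Function.Bijective (θ.mapDerivedCategory.map : (X ⟶ Y) → _)) :
    Function.Bijective (θ.mapDerivedCategory.map : (X' ⟶ Y') → _) := by
  have : (θ.mapDerivedCategory.map : (X' ⟶ Y') → _) =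
      (θ.mapDerivedCategory.mapIso e).homCongr (θ.mapDerivedCategory.mapIso e') ∘
        (θ.mapDerivedCategory.map : (X ⟶ Y) → _) ∘ (e.homCongr e').symm := by
    funext g
    simp [Iso.homCongr, ← Functor.map_comp]
  rw [this]
  exact (Equiv.bijective _).comp (h.comp (Equiv.bijective _))

variable {θ : A ⥤ B} [θ.Additive] [PreservesFiniteLimits θ] [PreservesFiniteColimits θ] [EnoughInjectives B]
  {G : B ⥤ A} [G.Additive] (adj : θ ⊣ G)
  {ι : Type t} {A₁ : ι → Type uf} [∀ i, Category.{vf} (A₁ i)] [∀ i, Abelian (A₁ i)] [∀ i, HasDerivedCategory.{wf} (A₁ i)]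
  {B₁ : ι → Type uf'} [∀ i, Category.{vf'} (B₁ i)] [∀ i, Abelian (B₁ i)] [∀ i, HasDerivedCategory.{wf'} (B₁ i)]
  {θ₁ : ∀ i, A₁ i ⥤ B₁ i} [∀ i, (θ₁ i).Additive] [∀ i, PreservesFiniteLimits (θ₁ i)]
  [∀ i, PreservesFiniteColimits (θ₁ i)] {G₁ : ∀ i, B₁ i ⥤ A₁ i} [∀ i, (G₁ i).Additive] (adj₁ : ∀ i, θ₁ i ⊣ G₁ i)
  {r : ∀ i, A ⥤ A₁ i} [∀ i, (r i).Additive] [∀ i, PreservesFiniteLimits (r i)] [∀ i, PreservesFiniteColimits (r i)]
  {r' : ∀ i, B ⥤ B₁ i} [∀ i, (r' i).Additive] [∀ i, PreservesFiniteLimits (r' i)]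
  [∀ i, PreservesFiniteColimits (r' i)] [∀ i, (r' i).PreservesInjectiveObjects]
  (c : ∀ i, r i ⋙ θ₁ i ≅ θ ⋙ r' i) (d : ∀ i, G ⋙ r i ≅ r' i ⋙ G₁ i)

include adj adj₁ in
/-- Full faithfulness on bounded below objects can be checked fibrewise. -/
theorem bijective
    (rel : ∀ i X, (adj₁ i).unit.app ((r i).obj X) ≫ (G₁ i).map ((c i).hom.app X) =
      (r i).map (adj.unit.app X) ≫ (d i).hom.app (θ.obj X))
    (hcons : ∀ {X Y : A} (f : X ⟶ Y), (∀ i, IsIso ((r i).map f)) → IsIso f)
    (h : ∀ i (K L : DerivedCategory.Plus (A₁ i)),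
      Function.Bijective ((θ₁ i).mapDerivedCategory.map : (K.obj ⟶ L.obj) → _))
    (K L : DerivedCategory.Plus A) :
    Function.Bijective (θ.mapDerivedCategory.map : (K.obj ⟶ L.obj) → _) := by
  obtain ⟨K₀, -, -, ⟨eK⟩⟩ := exists_complex K
  obtain ⟨X₀, dX, hX, ⟨eX⟩⟩ := exists_complex L
  haveI : θ.PreservesMonomorphisms := inferInstance
  haveI : G.PreservesInjectiveObjects := Functor.preservesInjectiveObjects_of_adjunction_of_preservesMonomorphisms adj
  let θX : DerivedCategory.Plus B :=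
    DerivedCategory.Plus.Qh.obj ⟨(q).obj ((θ.mapHomologicalComplex _).obj X₀), by
      rw [HomotopyCategory.plus_quotient_obj_iff]
      exact ⟨dX, isStrictlyGE_map θ X₀ dX⟩⟩
  obtain ⟨I, hI, hinj, ⟨eI⟩⟩ := H9Misc.PlusRB.exists_rep θX
  obtain ⟨dI, hdI⟩ : ∃ d : ℤ, CochainComplex.IsStrictlyGE I.obj.as d :=
    (HomotopyCategory.plus_quotient_obj_iff I.obj.as).1 I.property
  let J₀ : CochainComplex B ℤ := I.obj.as
  haveI : CochainComplex.IsKInjective J₀ := hI
  haveI : ∀ n, Injective (J₀.X n) := hinj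
  let GJ₀ := (G.mapHomologicalComplex (ComplexShape.up ℤ)).obj J₀
  haveI := isStrictlyGE_map G J₀ dI
  haveI : ∀ n, Injective (GJ₀.X n) := fun n => G.injective_obj_of_injective (inferInstance : Injective (J₀.X n))
  haveI : CochainComplex.IsKInjective GJ₀ := CochainComplex.isKInjective_of_injective GJ₀ dI
  haveI : CochainComplex.IsKInjective ((q).obj J₀).as := hI
  haveI : CochainComplex.IsKInjective ((G.mapHomotopyCategory (ComplexShape.up ℤ)).obj ((q).obj J₀)).as :=
    ‹CochainComplex.IsKInjective GJ₀›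
  obtain ⟨jq, hjq⟩ := (CochainComplex.IsKInjective.Qh_map_bijective
    ((θ.mapHomotopyCategory (ComplexShape.up ℤ)).obj ((q).obj X₀)) J₀).2
    ((DerivedCategory.Plus.ι.mapIso eI).inv : DerivedCategory.Qh.obj ((q).obj ((θ.mapHomologicalComplex _).obj X₀)) ⟶
      DerivedCategory.Qh.obj ((q).obj J₀))
  obtain ⟨j₀, rfl⟩ := (HomotopyCategory.quotient B (ComplexShape.up ℤ)).map_surjective
    (X := (θ.mapHomologicalComplex (ComplexShape.up ℤ)).obj X₀) (Y := J₀) jq
  haveI : IsIso (DerivedCategory.Qh.map (X := (θ.mapHomotopyCategory (ComplexShape.up ℤ)).obj ((q).obj X₀))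
      (Y := (q).obj J₀) ((q).map j₀)) := by
    exact (congrArg IsIso hjq).mpr inferInstance
  let η := DerivedUnit.transpose adj (X := (q).obj X₀) (J := (q).obj J₀) ((q).map j₀)
  suffices IsIso (DerivedCategory.Qh.map η) from
    bijective_conj eK eX (DerivedUnit.bijective_of_isIso adj (X := (q).obj X₀) (J := (q).obj J₀) ((q).map j₀) ((q).obj K₀))
  have key : ∀ i, IsIso (DerivedCategory.Qh.map (((r i).mapHomotopyCategory (ComplexShape.up ℤ)).map η)) := by
    intro i
    let rX := ((r i).mapHomologicalComplex (ComplexShape.up ℤ)).obj X₀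
    let J₁ := ((r' i).mapHomologicalComplex (ComplexShape.up ℤ)).obj J₀
    haveI := isStrictlyGE_map (r' i) J₀ dI
    haveI := isStrictlyGE_map (r i) X₀ dX
    haveI : ∀ n, Injective (J₁.X n) := fun n => (r' i).injective_obj_of_injective (inferInstance : Injective (J₀.X n))
    haveI : CochainComplex.IsKInjective J₁ := CochainComplex.isKInjective_of_injective J₁ dI
    haveI : (θ₁ i).PreservesMonomorphisms := inferInstance
    haveI : (G₁ i).PreservesInjectiveObjects :=
      Functor.preservesInjectiveObjects_of_adjunction_of_preservesMonomorphisms (adj₁ i)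
    let GJ₁ := ((G₁ i).mapHomologicalComplex (ComplexShape.up ℤ)).obj J₁
    haveI := isStrictlyGE_map (G₁ i) J₁ dI
    haveI : ∀ n, Injective (GJ₁.X n) := fun n =>
      (G₁ i).injective_obj_of_injective (inferInstance : Injective (J₁.X n))
    haveI : CochainComplex.IsKInjective GJ₁ := CochainComplex.isKInjective_of_injective GJ₁ dI
    haveI : CochainComplex.IsKInjective ((q).obj J₁).as := ‹CochainComplex.IsKInjective J₁›
    haveI : CochainComplex.IsKInjective (((G₁ i).mapHomotopyCategory (ComplexShape.up ℤ)).obj ((q).obj J₁)).as :=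
      ‹CochainComplex.IsKInjective GJ₁›
    let cC : ((θ₁ i).mapHomologicalComplex (ComplexShape.up ℤ)).obj rX ⟶
        ((r' i).mapHomologicalComplex (ComplexShape.up ℤ)).obj ((θ.mapHomologicalComplex _).obj X₀) :=
      { f := fun n => (c i).hom.app (X₀.X n), comm' := fun m n _ => ((c i).hom.naturality (X₀.d m n)).symm }
    haveI : ∀ n, IsIso (cC.f n) := fun n => inferInstanceAs (IsIso ((c i).hom.app (X₀.X n)))
    haveI : IsIso cC := HomologicalComplex.Hom.isIso_of_components _
    let dC : ((r i).mapHomologicalComplex (ComplexShape.up ℤ)).obj GJ₀ ⟶ GJ₁ :=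
      { f := fun n => (d i).hom.app (J₀.X n), comm' := fun m n _ => ((d i).hom.naturality (J₀.d m n)).symm }
    haveI : ∀ n, IsIso (dC.f n) := fun n => inferInstanceAs (IsIso ((d i).hom.app (J₀.X n)))
    haveI : IsIso dC := HomologicalComplex.Hom.isIso_of_components _
    haveI : IsIso (DerivedCategory.Qh.map ((q).map dC)) := DerivedCategory.Qh.map_isIso ((q).map dC)
    let jh : (θ.mapHomotopyCategory (ComplexShape.up ℤ)).obj ((q).obj X₀) ⟶ (q).obj J₀ := (q).map j₀
    haveI : IsIso (DerivedCategory.Qh.map jh) := ‹_›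
    haveI : IsIso (DerivedCategory.Qh.map (((r' i).mapHomotopyCategory (ComplexShape.up ℤ)).map
        (X := (q).obj ((θ.mapHomologicalComplex _).obj X₀)) (Y := (q).obj J₀) ((q).map j₀))) :=
      (NatIso.isIso_map_iff (r' i).mapDerivedCategoryFactorsh jh).1
        (inferInstanceAs (IsIso ((r' i).mapDerivedCategory.map (DerivedCategory.Qh.map jh))))
    let j₁ : ((θ₁ i).mapHomotopyCategory (ComplexShape.up ℤ)).obj ((q).obj rX) ⟶ (q).obj J₁ :=
      (q).map (cC ≫ ((r' i).mapHomologicalComplex _).map j₀)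
    haveI : IsIso (DerivedCategory.Qh.map j₁) := by
      show IsIso (DerivedCategory.Qh.map ((q).map (cC ≫ ((r' i).mapHomologicalComplex _).map j₀)))
      rw [Functor.map_comp, Functor.map_comp]
      exact IsIso.comp_isIso' inferInstance ‹_›
    let PX : DerivedCategory.Plus (A₁ i) := DerivedCategory.Plus.Qh.obj ⟨(q).obj rX, by
      rw [HomotopyCategory.plus_quotient_obj_iff]; exact ⟨dX, inferInstance⟩⟩
    let PG : DerivedCategory.Plus (A₁ i) := DerivedCategory.Plus.Qh.obj ⟨(q).obj GJ₁, by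
      rw [HomotopyCategory.plus_quotient_obj_iff]; exact ⟨dI, inferInstance⟩⟩
    haveI h₁ : IsIso (DerivedCategory.Qh.map (DerivedUnit.transpose (adj₁ i) (X := (q).obj rX) (J := (q).obj J₁) j₁)) :=
      DerivedUnit.isIso_of_bijective (adj₁ i) (X := (q).obj rX) (J := (q).obj J₁) j₁ (h i PX PX) (h i PG PX)
    have heq : ((r i).mapHomotopyCategory (ComplexShape.up ℤ)).map η ≫ (q).map dC =
        DerivedUnit.transpose (adj₁ i) (X := (q).obj rX) (J := (q).obj J₁) j₁ := by
      dsimp only [η, DerivedUnit.transpose]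
      rw [Adjunction.homEquiv_unit, Adjunction.homEquiv_unit]
      let uA : X₀ ⟶ (G.mapHomologicalComplex (ComplexShape.up ℤ)).obj ((θ.mapHomologicalComplex _).obj X₀) :=
        { f := fun n => adj.unit.app (X₀.X n), comm' := fun m n _ => (adj.unit.naturality (X₀.d m n)).symm }
      let uA₁ : rX ⟶ ((G₁ i).mapHomologicalComplex (ComplexShape.up ℤ)).obj (((θ₁ i).mapHomologicalComplex _).obj rX) :=
        { f := fun n => (adj₁ i).unit.app (rX.X n), comm' := fun m n _ => ((adj₁ i).unit.naturality (rX.d m n)).symm }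
      show (q).map (((r i).mapHomologicalComplex _).map (uA ≫ (G.mapHomologicalComplex _).map j₀)) ≫ (q).map dC =
        (q).map uA₁ ≫ (q).map (((G₁ i).mapHomologicalComplex _).map (cC ≫ ((r' i).mapHomologicalComplex _).map j₀))
      rw [← Functor.map_comp, ← Functor.map_comp]
      refine congrArg _ (HomologicalComplex.hom_ext _ _ fun n => ?_)
      show (r i).map (adj.unit.app (X₀.X n) ≫ G.map (j₀.f n)) ≫ (d i).hom.app (J₀.X n) =
        (adj₁ i).unit.app ((r i).obj (X₀.X n)) ≫ (G₁ i).map ((c i).hom.app (X₀.X n) ≫ (r' i).map (j₀.f n))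
      rw [Functor.map_comp, Functor.map_comp, ← Category.assoc _ _ ((G₁ i).map ((r' i).map _)), rel i (X₀.X n)]
      rw [Category.assoc, Category.assoc]
      exact congrArg (_ ≫ ·) ((d i).hom.naturality (j₀.f n))
    have : IsIso (DerivedCategory.Qh.map (((r i).mapHomotopyCategory (ComplexShape.up ℤ)).map η) ≫
        DerivedCategory.Qh.map ((q).map dC)) := by
      refine (congrArg IsIso ((DerivedCategory.Qh.map_comp _ _).symm.trans (congrArg _ heq))).mpr h₁
    exact @IsIso.of_isIso_comp_right _ _ _ _ _ _ _ (DerivedCategory.Qh.map_isIso ((q).map dC)) this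
  refine (DerivedCategory.isIso_iff A _).2 fun n => hcons _ fun i => ?_
  haveI := key i
  haveI : IsIso ((r i).mapDerivedCategory.map (DerivedCategory.Qh.map η)) :=
    (NatIso.isIso_map_iff (r i).mapDerivedCategoryFactorsh η).2 ‹_›
  exact (NatIso.isIso_map_iff (KFlatLib.mapDCHomologyIso (r i) n) _).1
    (inferInstanceAs (IsIso ((DerivedCategory.homologyFunctor (A₁ i) n).map
      ((r i).mapDerivedCategory.map (DerivedCategory.Qh.map η)))))

end Groth.Agent.FibBi.DerivedFibrewise
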