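import Groth.Agent.H9Misc.SerreDerived
import Mathlib.Algebra.Homology.DerivedCategory.KInjective

/-!
# The unit of a derived adjunction on representatives
-/

set_option autoImplicit false
set_option linter.style.haveILetI false

universe w w' v v' u u'

open CategoryTheory CategoryTheory.Limits

noncomputable section

namespace Groth.Agent.FibBi.DerivedUnit

variable {A : Type u} [Category.{v} A] [Abelian A] [HasDerivedCategory.{w} A]
  {B : Type u'} [Category.{v'} B] [Abelian B] [HasDerivedCategory.{w'} B]
  {θ : A ⥤ B} [θ.Additive] [PreservesFiniteLimits θ] [PreservesFiniteColimits θ]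
  {G : B ⥤ A} [G.Additive] (adj : θ ⊣ G)

/-- Homotopy category. -/
abbrev HA (A : Type u) [Category.{v} A] [Abelian A] := HomotopyCategory A (ComplexShape.up ℤ)

variable {X : HA A} {J : HomotopyCategory B (ComplexShape.up ℤ)}
  [CochainComplex.IsKInjective J.as] [CochainComplex.IsKInjective ((G.mapHomotopyCategory (ComplexShape.up ℤ)).obj J).as]
  (j : (θ.mapHomotopyCategory (ComplexShape.up ℤ)).obj X ⟶ J) [IsIso (DerivedCategory.Qh.map j)]

/-- The transpose of the resolution. -/
abbrev transpose : X ⟶ (G.mapHomotopyCategory (ComplexShape.up ℤ)).obj J :=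
  (H9Misc.SerreDerived.adjHtpy (ComplexShape.up ℤ) adj).homEquiv _ _ j

/-- Bijectivity of the induced map is bijectivity of composition with the transpose. -/
theorem bijective_iff (K : HA A) :
    Function.Bijective (θ.mapDerivedCategory.map : (DerivedCategory.Qh.obj K ⟶ DerivedCategory.Qh.obj X) → _) ↔
      Function.Bijective fun g : DerivedCategory.Qh.obj K ⟶ DerivedCategory.Qh.obj X =>
        g ≫ DerivedCategory.Qh.map (transpose adj j) := by
  let a := H9Misc.SerreDerived.adjHtpy (ComplexShape.up ℤ) adj
  let φ := θ.mapDerivedCategoryFactorsh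
  let GJ := (G.mapHomotopyCategory (ComplexShape.up ℤ)).obj J
  let b : (DerivedCategory.Qh.obj K ⟶ DerivedCategory.Qh.obj GJ) →
      (θ.mapDerivedCategory.obj (DerivedCategory.Qh.obj K) ⟶ DerivedCategory.Qh.obj J) :=
    fun h => θ.mapDerivedCategory.map h ≫ φ.hom.app GJ ≫ DerivedCategory.Qh.map (a.counit.app J)
  have hb : Function.Bijective b := by
    let q : (K ⟶ GJ) → (DerivedCategory.Qh.obj K ⟶ DerivedCategory.Qh.obj GJ) := DerivedCategory.Qh.map
    have hq : Function.Bijective q := CochainComplex.IsKInjective.Qh_map_bijective K GJ.as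
    have hq' : Function.Bijective fun t : (θ.mapHomotopyCategory (ComplexShape.up ℤ)).obj K ⟶ J =>
        φ.hom.app K ≫ DerivedCategory.Qh.map t :=
      (((asIso (φ.hom.app K)).symm.homFromEquiv).bijective).comp
        (CochainComplex.IsKInjective.Qh_map_bijective _ J.as)
    refine (Function.Bijective.of_comp_iff b hq).1 ?_
    have : b ∘ q = (fun t => φ.hom.app K ≫ DerivedCategory.Qh.map t) ∘ (a.homEquiv K J).symm := by
      funext k
      simp only [Function.comp_apply, b, q]
      rw [a.homEquiv_counit, Functor.map_comp]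
      exact ((φ.hom.naturality_assoc k _).trans rfl)
    rw [this]
    exact hq'.comp (Equiv.bijective _)
  have hcomp : b ∘ (fun g : DerivedCategory.Qh.obj K ⟶ DerivedCategory.Qh.obj X =>
        g ≫ DerivedCategory.Qh.map (transpose adj j)) =
      (fun y => y ≫ φ.hom.app X ≫ DerivedCategory.Qh.map j) ∘ θ.mapDerivedCategory.map := by
    funext g
    simp only [Function.comp_apply, b, Functor.map_comp, Category.assoc]
    refine congrArg (_ ≫ ·) ?_
    refine (φ.hom.naturality_assoc (transpose adj j) _).trans ?_
    refine congrArg (φ.hom.app X ≫ ·) ?_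
    refine (DerivedCategory.Qh.map_comp _ _).symm.trans ?_
    exact congrArg DerivedCategory.Qh.map ((a.homEquiv_counit _ _ _).symm.trans ((a.homEquiv _ _).symm_apply_apply j))
  have hpost : Function.Bijective fun y : θ.mapDerivedCategory.obj (DerivedCategory.Qh.obj K) ⟶
      θ.mapDerivedCategory.obj (DerivedCategory.Qh.obj X) => y ≫ φ.hom.app X ≫ DerivedCategory.Qh.map j :=
    ((asIso (φ.hom.app X ≫ DerivedCategory.Qh.map j)).homToEquiv).bijective
  refine ((Function.Bijective.of_comp_iff' hpost _).symm).trans ?_
  refine Iff.trans ?_ (Function.Bijective.of_comp_iff' hb _)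
  exact iff_of_eq (congrArg Function.Bijective hcomp.symm)

/-- If composition with the transpose is invertible the functor is fully faithful towards `X`. -/
theorem bijective_of_isIso [IsIso (DerivedCategory.Qh.map (transpose adj j))] (K : HA A) :
    Function.Bijective (θ.mapDerivedCategory.map : (DerivedCategory.Qh.obj K ⟶ DerivedCategory.Qh.obj X) → _) :=
  (bijective_iff adj j K).2 ((asIso (DerivedCategory.Qh.map (transpose adj j))).homToEquiv).bijective

/-- Full faithfulness towards `X` from `X` and from the transpose makes it invertible. -/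
theorem isIso_of_bijective
    (h₁ : Function.Bijective (θ.mapDerivedCategory.map : (DerivedCategory.Qh.obj X ⟶ DerivedCategory.Qh.obj X) → _))
    (h₂ : Function.Bijective (θ.mapDerivedCategory.map :
      (DerivedCategory.Qh.obj ((G.mapHomotopyCategory (ComplexShape.up ℤ)).obj J) ⟶ DerivedCategory.Qh.obj X) → _)) :
    IsIso (DerivedCategory.Qh.map (transpose adj j)) := by
  obtain ⟨g, hg⟩ := ((bijective_iff adj j _).1 h₂).2 (𝟙 _)
  refine ⟨g, ((bijective_iff adj j X).1 h₁).1 ?_, hg⟩
  show (_ ≫ g) ≫ _ = 𝟙 _ ≫ _
  rw [Category.assoc, Category.id_comp]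
  exact (congrArg (_ ≫ ·) hg).trans (Category.comp_id _)

end Groth.Agent.FibBi.DerivedUnit
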