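import Mathlib.Algebra.Category.Grp.AB
import Mathlib.Algebra.Category.Grp.Colimits
import Mathlib.Algebra.Category.Grp.Limits
import Mathlib.Algebra.Category.Grp.FilteredColimits
import Mathlib.Algebra.DirectSum.Basic
import Mathlib.Algebra.Homology.ShortComplex.ExactFunctor
import Mathlib.CategoryTheory.Functor.KanExtension.Adjunction
import Mathlib.CategoryTheory.Sites.Pullback
import Mathlib.CategoryTheory.Sites.Abelian
import Mathlib.CategoryTheory.Sites.LeftExact
import Mathlib.CategoryTheory.Adjunction.Additive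

/-!
# Left Kan extensions along functors with componentwise filtered comma categories preserve monomorphisms
-/

set_option autoImplicit false
set_option backward.isDefEq.respectTransparency false
set_option backward.isDefEq.respectTransparency.types false
set_option linter.style.haveILetI false

universe u

open CategoryTheory CategoryTheory.Limits Opposite

noncomputable section

namespace Groth.Agent.FibBi.LanMono

variable {J : Type u} [SmallCategory J] {ι : Type u} (c : J → ι) (hc : ∀ {j k : J}, (j ⟶ k) → c j = c k)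

/-- A component. -/
abbrev Comp (i : Set.range c) := ObjectProperty.FullSubcategory (fun j : J => c j = i.1)

/-- The colimit over a component. -/
abbrev G (i : Set.range c) (P : J ⥤ AddCommGrpCat.{u}) : AddCommGrpCat.{u} :=
  colimit (ObjectProperty.ι _ ⋙ P : Comp c i ⥤ _)

/-- The sum over the components. -/
abbrev GS (P : J ⥤ AddCommGrpCat.{u}) : AddCommGrpCat.{u} :=
  AddCommGrpCat.of (DirectSum (Set.range c) fun i => G c i P)

open scoped Classical in
/-- The inclusion of a component. -/
abbrev inc (P : J ⥤ AddCommGrpCat.{u}) (i : Set.range c) : G c i P ⟶ GS c P :=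
  AddCommGrpCat.ofHom (DirectSum.of (fun i => G c i P) i)

/-- The component map of an object. -/
def cmp (P : J ⥤ AddCommGrpCat.{u}) (j : J) (i : Set.range c) (h : c j = i.1) : P.obj j ⟶ GS c P :=
  colimit.ι (ObjectProperty.ι _ ⋙ P : Comp c i ⥤ _) ⟨j, h⟩ ≫ inc c P i

lemma cmp_map (P : J ⥤ AddCommGrpCat.{u}) {j k : J} (f : j ⟶ k) (i : Set.range c) (h : c j = i.1) (h' : c k = i.1) :
    P.map f ≫ cmp c P k i h' = cmp c P j i h := by
  rw [cmp, cmp, ← Category.assoc]
  refine congrArg (· ≫ _) ?_
  exact colimit.w (ObjectProperty.ι _ ⋙ P : Comp c i ⥤ _) (ObjectProperty.homMk f : (⟨j, h⟩ : Comp c i) ⟶ ⟨k, h'⟩)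

/-- The decomposition. -/
def dec (P : J ⥤ AddCommGrpCat.{u}) : colimit P ⟶ GS c P :=
  colimit.desc P
    { pt := GS c P
      ι :=
        { app := fun j => cmp c P j ⟨c j, j, rfl⟩ rfl
          naturality := fun j k f => by
            have e : (⟨c j, j, rfl⟩ : Set.range c) = ⟨c k, k, rfl⟩ := Subtype.ext (hc f)
            have gen : ∀ (i : Set.range c) (h : c j = i.1) (h' : c k = i.1), (⟨c j, j, rfl⟩ : Set.range c) = i →
                cmp c P j i h = cmp c P j ⟨c j, j, rfl⟩ rfl := by
              intro i h h' hi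
              subst hi
              rfl
            refine (cmp_map c P f ⟨c k, k, rfl⟩ (hc f) rfl).trans ((gen _ (hc f) rfl e).trans ?_)
            exact (Category.comp_id _).symm } }

open scoped Classical in
/-- The recomposition. -/
def rec' (P : J ⥤ AddCommGrpCat.{u}) : GS c P ⟶ colimit P :=
  AddCommGrpCat.ofHom (DirectSum.toAddMonoid fun i => (colimit.pre P (ObjectProperty.ι fun j : J => c j = i.1)).hom)

include hc in
lemma dec_rec (P : J ⥤ AddCommGrpCat.{u}) : dec c hc P ≫ rec' c P = 𝟙 _ := by
  classical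
  refine colimit.hom_ext fun j => ?_
  rw [dec, colimit.ι_desc_assoc, Category.comp_id]
  ext x
  refine Eq.trans (DirectSum.toAddMonoid_of (β := fun i => G c i P)
    (fun i : Set.range c => (colimit.pre P (ObjectProperty.ι fun j' : J => c j' = i.1)).hom) ⟨c j, j, rfl⟩ _) ?_
  exact ConcreteCategory.congr_hom (colimit.ι_pre P (ObjectProperty.ι fun j' : J => c j' = c j) ⟨j, rfl⟩) x

open scoped Classical in
include hc in
/-- Colimits of monomorphisms are monomorphisms when every component is filtered. -/
theorem mono_colimMap [∀ i : Set.range c, IsFiltered (Comp c i)] {P Q : J ⥤ AddCommGrpCat.{u}} (η : P ⟶ Q)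
    [∀ j, Mono (η.app j)] : Mono (colimMap η) := by
  let m : ∀ i, G c i P ⟶ G c i Q := fun i => colimMap (Functor.whiskerLeft _ η)
  let M : GS c P ⟶ GS c Q := AddCommGrpCat.ofHom (DirectSum.map fun i => (m i).hom)
  have hm : ∀ i, Mono (m i) := fun i => by
    haveI : Mono (Functor.whiskerLeft (ObjectProperty.ι fun j : J => c j = i.1) η) :=
      haveI : ∀ j, Mono ((Functor.whiskerLeft (ObjectProperty.ι fun j : J => c j = i.1) η).app j) := fun j =>
        inferInstanceAs (Mono (η.app j.obj))
      NatTrans.mono_of_mono_app _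
    exact Functor.map_mono (colim : (Comp c i ⥤ AddCommGrpCat.{u}) ⥤ _) _
  haveI : Mono M := (AddCommGrpCat.mono_iff_injective M).2
    ((DirectSum.map_injective _).2 fun i => (AddCommGrpCat.mono_iff_injective (m i)).1 (hm i))
  have h : colimMap η ≫ dec c hc Q = dec c hc P ≫ M := by
    refine colimit.hom_ext fun j => ?_
    rw [ι_colimMap_assoc, dec, colimit.ι_desc, dec, colimit.ι_desc_assoc]
    refine Eq.trans ?_ (Category.assoc _ _ _).symm
    have hinc : inc c P ⟨c j, j, rfl⟩ ≫ M = m _ ≫ inc c Q ⟨c j, j, rfl⟩ := by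
      apply AddCommGrpCat.hom_ext
      refine AddMonoidHom.ext fun x => ?_
      exact DirectSum.map_of (α := fun i => G c i P) (β := fun i => G c i Q) (fun i => (m i).hom) ⟨c j, j, rfl⟩ x
    rw [hinc, ← Category.assoc]
    refine Eq.trans ?_ (congrArg (· ≫ _) (ι_colimMap (Functor.whiskerLeft (ObjectProperty.ι fun j' : J => c j' = c j) η)
      ⟨j, rfl⟩).symm)
    exact (Category.assoc _ _ _).symm
  haveI : Mono (dec c hc P) := SplitMono.mono ⟨rec' c P, dec_rec c hc P⟩
  haveI : Mono (colimMap η ≫ dec c hc Q) := h ▸ mono_comp _ _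
  exact mono_of_mono (colimMap η) (dec c hc Q)

variable {C D : Type u} [SmallCategory C] [SmallCategory D] (F : C ⥤ D)

/-- A functor has componentwise filtered comma categories. -/
def MultiFlat : Prop :=
  ∀ d : Dᵒᵖ, ∃ (κ : Type u) (c : CostructuredArrow F.op d → κ),
    (∀ {j k}, (j ⟶ k) → c j = c k) ∧ ∀ i : Set.range c, IsFiltered (Comp c i)

variable {F}

/-- The left Kan extension preserves monomorphisms. -/
theorem mono_lan (hF : MultiFlat F) {P Q : Cᵒᵖ ⥤ AddCommGrpCat.{u}} (η : P ⟶ Q) [Mono η] :
    Mono ((F.op.lan).map η) := by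
  haveI : ∀ d, Mono (((F.op.lan).map η).app d) := fun d => by
    obtain ⟨κ, c, hc, hfil⟩ := hF d
    let hP := F.op.isPointwiseLeftKanExtensionLeftKanExtensionUnit P d
    let hQ := F.op.isPointwiseLeftKanExtensionLeftKanExtensionUnit Q d
    let eP := hP.coconePointUniqueUpToIso (colimit.isColimit _)
    let eQ := hQ.coconePointUniqueUpToIso (colimit.isColimit _)
    let τ := Functor.whiskerLeft (CostructuredArrow.proj F.op d) η
    haveI : ∀ j, Mono (τ.app j) := fun j => inferInstanceAs (Mono (η.app _))
    haveI := mono_colimMap c hc τ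
    have h : ((F.op.lan).map η).app d = eP.hom ≫ colimMap τ ≫ eQ.inv := by
      refine hP.hom_ext fun j => ?_
      rw [IsColimit.comp_coconePointUniqueUpToIso_hom_assoc, colimit.cocone_ι, ι_colimMap_assoc,
        ← colimit.cocone_ι, IsColimit.comp_coconePointUniqueUpToIso_inv]
      have h1 := congrArg (fun q => q.app j.left) ((F.op.lanUnit (H := AddCommGrpCat.{u})).naturality η)
      have h2 := ((F.op.lan).map η).naturality j.hom
      dsimp [τ] at h1 h2 ⊢
      erw [Category.assoc, h2, ← Category.assoc]
      exact (congrArg (· ≫ _) h1.symm).trans (Category.assoc _ _ _)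
    rw [h]
    exact mono_comp _ _
  exact NatTrans.mono_of_mono_app _

variable {J₁ : GrothendieckTopology C} {J₂ : GrothendieckTopology D} [F.IsContinuous J₁ J₂]

/-- The inverse image is left exact. -/
theorem lex_sheafPullback (hF : MultiFlat F) :
    PreservesFiniteLimits (F.sheafPullback AddCommGrpCat.{u} J₁ J₂) := by
  haveI : PreservesFiniteLimits (F.op.lan : (Cᵒᵖ ⥤ AddCommGrpCat.{u}) ⥤ _) := by
    let L : (Cᵒᵖ ⥤ AddCommGrpCat.{u}) ⥤ (Dᵒᵖ ⥤ AddCommGrpCat.{u}) := F.op.lan
    haveI : PreservesColimitsOfSize.{0, 0} L := (F.op.lanAdjunction _).leftAdjoint_preservesColimits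
    haveI : PreservesFiniteColimits L := PreservesColimitsOfSize.preservesFiniteColimits _
    haveI : L.Additive := (F.op.lanAdjunction _).left_adjoint_additive
    haveI : L.PreservesMonomorphisms := ⟨fun f _ => mono_lan hF f⟩
    refine ((Functor.preservesFiniteLimits_iff_forall_exact_map_and_mono L).2 fun S hS => ⟨?_, ?_⟩)
    · exact ((Functor.preservesFiniteColimits_iff_forall_exact_map_and_epi L).1 inferInstance S hS).1
    · haveI := hS.mono_f
      exact inferInstance
  exact Functor.sheafPullbackConstruction.preservesFiniteLimits F AddCommGrpCat.{u} J₁ J₂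

end Groth.Agent.FibBi.LanMono
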