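import Mathlib.CategoryTheory.GuitartExact.Opposite
import Mathlib.CategoryTheory.GuitartExact.KanExtension
import Mathlib.CategoryTheory.Sites.CoverLifting
import Mathlib.CategoryTheory.Sites.Continuous
import Mathlib.CategoryTheory.Sites.Pullback
import Mathlib.CategoryTheory.Sites.Abelian
import Mathlib.Algebra.Category.Grp.Limits
import Mathlib.Algebra.Category.Grp.Colimits
import Mathlib.Algebra.Category.Grp.FilteredColimits
import Mathlib.Algebra.Category.Grp.AB

/-!
# Base change for squares of sites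

`T : C₁ ⥤ C₂`, `B : C₃ ⥤ C₄` give restrictions with right adjoints, `L : C₁ ⥤ C₃`, `R : C₂ ⥤ C₄` restrictions with left
adjoints; `w : L ⋙ B ⟶ T ⋙ R`. If the square is exact both base change maps are invertible.
-/

set_option autoImplicit false
set_option backward.isDefEq.respectTransparency false
set_option backward.isDefEq.respectTransparency.types false
set_option linter.style.haveILetI false

universe u

open CategoryTheory CategoryTheory.Limits Opposite

noncomputable section

namespace Groth.Agent.FibBi.SquareMate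

variable {C₁ C₂ C₃ C₄ : Type u} [SmallCategory C₁] [SmallCategory C₂] [SmallCategory C₃] [SmallCategory C₄]
  {J₁ : GrothendieckTopology C₁} {J₂ : GrothendieckTopology C₂} {J₃ : GrothendieckTopology C₃}
  {J₄ : GrothendieckTopology C₄}
  (T : C₁ ⥤ C₂) (L : C₁ ⥤ C₃) (R : C₂ ⥤ C₄) (B : C₃ ⥤ C₄) (w : L ⋙ B ⟶ T ⋙ R)
  [T.IsContinuous J₁ J₂] [T.IsCocontinuous J₁ J₂] [B.IsContinuous J₃ J₄] [B.IsCocontinuous J₃ J₄]
  [L.IsContinuous J₁ J₃] [R.IsContinuous J₂ J₄]

/-- Restriction along `T`. -/
abbrev resT : Sheaf J₂ AddCommGrpCat.{u} ⥤ Sheaf J₁ AddCommGrpCat.{u} :=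
  T.sheafPushforwardContinuous AddCommGrpCat.{u} J₁ J₂

/-- The comparison of the two restrictions. -/
def s : R.sheafPushforwardContinuous AddCommGrpCat.{u} J₂ J₄ ⋙ resT (J₁ := J₁) (J₂ := J₂) T ⟶
    B.sheafPushforwardContinuous AddCommGrpCat.{u} J₃ J₄ ⋙ L.sheafPushforwardContinuous AddCommGrpCat.{u} J₁ J₃ where
  app N := ⟨Functor.whiskerRight (NatTrans.op w) N.obj⟩
  naturality N N' g := by
    apply CategoryTheory.Sheaf.hom_ext
    ext X : 2
    exact (g.hom.naturality (w.app X.unop).op).symm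

/-- Base change for the right adjoints of restrictions. -/
def d : B.sheafPushforwardCocontinuous AddCommGrpCat.{u} J₃ J₄ ⋙ R.sheafPushforwardContinuous AddCommGrpCat.{u} J₂ J₄ ⟶
    L.sheafPushforwardContinuous AddCommGrpCat.{u} J₁ J₃ ⋙ T.sheafPushforwardCocontinuous AddCommGrpCat.{u} J₁ J₂ where
  app N := (T.sheafAdjunctionCocontinuous AddCommGrpCat.{u} J₁ J₂).homEquiv _ _
    ((s T L R B w).app ((B.sheafPushforwardCocontinuous AddCommGrpCat.{u} J₃ J₄).obj N) ≫
      (L.sheafPushforwardContinuous AddCommGrpCat.{u} J₁ J₃).map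
        ((B.sheafAdjunctionCocontinuous AddCommGrpCat.{u} J₃ J₄).counit.app N))
  naturality N N' g := by
    refine ((T.sheafAdjunctionCocontinuous AddCommGrpCat.{u} J₁ J₂).homEquiv_naturality_left _ _).symm.trans
      (Eq.trans ?_ ((T.sheafAdjunctionCocontinuous AddCommGrpCat.{u} J₁ J₂).homEquiv_naturality_right _ _))
    refine congrArg _ ?_
    rw [← Category.assoc]
    refine ((congrArg (· ≫ _) ((s T L R B w).naturality
      ((B.sheafPushforwardCocontinuous AddCommGrpCat.{u} J₃ J₄).map g))).trans (Category.assoc _ _ _)).trans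
        (Eq.trans ?_ (Category.assoc _ _ _).symm)
    refine congrArg (_ ≫ ·) ?_
    exact ((L.sheafPushforwardContinuous AddCommGrpCat.{u} J₁ J₃).map_comp _ _).symm.trans
      ((congrArg _ ((B.sheafAdjunctionCocontinuous AddCommGrpCat.{u} J₃ J₄).counit.naturality g)).trans
        ((L.sheafPushforwardContinuous AddCommGrpCat.{u} J₁ J₃).map_comp _ _))

omit [T.IsContinuous J₁ J₂] [T.IsCocontinuous J₁ J₂] [B.IsContinuous J₃ J₄] [B.IsCocontinuous J₃ J₄]
  [L.IsContinuous J₁ J₃] [R.IsContinuous J₂ J₄] in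
/-- In an exact square, right Kan extensions restrict to right Kan extensions. -/
def isPointwise [(TwoSquare.mk L T B R w).GuitartExact] (P : C₃ᵒᵖ ⥤ AddCommGrpCat.{u}) :
    (Functor.RightExtension.mk (R.op ⋙ B.op.ran.obj P) (Functor.whiskerRight (NatTrans.op w) (B.op.ran.obj P) ≫
      Functor.whiskerLeft L.op (B.op.ranCounit.app P)) :
        T.op.RightExtension (L.op ⋙ P)).IsPointwiseRightKanExtension := fun X₂ =>
  IsLimit.ofIsoLimit
    ((Functor.Initial.isLimitWhiskerEquiv ((TwoSquare.mk L T B R w).op.structuredArrowDownwards X₂) _).symm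
      (B.op.isPointwiseRightKanExtensionRanCounit P (R.op.obj X₂)))
    (Cone.ext (Iso.refl _) (fun j => by
      refine Eq.trans ?_ (Category.id_comp _).symm
      show (B.op.ran.obj P).map (R.op.map j.hom ≫ (w.app j.right.unop).op) ≫ _ =
        (B.op.ran.obj P).map (R.op.map j.hom) ≫ (B.op.ran.obj P).map (w.app j.right.unop).op ≫ _
      rw [Functor.map_comp, Category.assoc]
      rfl))

/-- The base change map is invertible for an exact square. -/
theorem isIso_d [(TwoSquare.mk L T B R w).GuitartExact] : IsIso (d (J₁ := J₁) (J₂ := J₂) (J₃ := J₃) (J₄ := J₄) T L R B w) := by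
  haveI : ∀ N, IsIso ((d (J₁ := J₁) (J₂ := J₂) (J₃ := J₃) (J₄ := J₄) T L R B w).app N) := fun N => by
    let adjT := T.sheafAdjunctionCocontinuous AddCommGrpCat.{u} J₁ J₂
    let dN := (d (J₁ := J₁) (J₂ := J₂) (J₃ := J₃) (J₄ := J₄) T L R B w).app N
    let P := N.obj
    let α : T.op ⋙ R.op ⋙ B.op.ran.obj P ⟶ L.op ⋙ P :=
      Functor.whiskerRight (NatTrans.op w) (B.op.ran.obj P) ≫ Functor.whiskerLeft L.op (B.op.ranCounit.app P)
    haveI : (R.op ⋙ B.op.ran.obj P).IsRightKanExtension α := (isPointwise T L R B w P).isRightKanExtension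
    have h := (adjT.homEquiv_counit _ _ dN).symm.trans ((adjT.homEquiv _ _).symm_apply_apply _)
    have h' : Functor.whiskerLeft T.op dN.hom ≫ T.op.ranCounit.app (L.op ⋙ P) = α := by
      have hT : (adjT.counit.app ((L.sheafPushforwardContinuous AddCommGrpCat.{u} J₁ J₃).obj N)).hom =
          T.op.ranCounit.app (L.op ⋙ P) := by
        rw [Functor.sheafAdjunctionCocontinuous_counit_app_hom, Functor.ranAdjunction_counit]
        rfl
      have hB : ((B.sheafAdjunctionCocontinuous AddCommGrpCat.{u} J₃ J₄).counit.app N).hom = B.op.ranCounit.app P := by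
        rw [Functor.sheafAdjunctionCocontinuous_counit_app_hom, Functor.ranAdjunction_counit]
      have h2 : Functor.whiskerLeft T.op dN.hom ≫ (adjT.counit.app ((L.sheafPushforwardContinuous AddCommGrpCat.{u} J₁ J₃).obj N)).hom =
          Functor.whiskerRight (NatTrans.op w) (B.op.ran.obj P) ≫
            Functor.whiskerLeft L.op ((B.sheafAdjunctionCocontinuous AddCommGrpCat.{u} J₃ J₄).counit.app N).hom :=
        congrArg (fun q => q.hom) h
      rw [hT, hB] at h2
      exact h2
    let inv' : T.op.ran.obj (L.op ⋙ P) ⟶ R.op ⋙ B.op.ran.obj P :=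
      (R.op ⋙ B.op.ran.obj P).liftOfIsRightKanExtension α _ (T.op.ranCounit.app (L.op ⋙ P))
    haveI : IsIso dN.hom := by
      refine ⟨inv', ?_, ?_⟩
      · refine Functor.hom_ext_of_isRightKanExtension _ α _ _ ?_
        rw [Functor.whiskerLeft_comp, Category.assoc]
        refine (congrArg (_ ≫ ·) (Functor.liftOfIsRightKanExtension_fac (R.op ⋙ B.op.ran.obj P) α _
          (T.op.ranCounit.app (L.op ⋙ P)))).trans ?_
        exact h'.trans (Category.id_comp α).symm
      · refine Functor.hom_ext_of_isRightKanExtension (T.op.ran.obj (L.op ⋙ P)) (T.op.ranCounit.app (L.op ⋙ P)) _ _ ?_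
        rw [Functor.whiskerLeft_comp, Category.assoc]
        refine (congrArg (_ ≫ ·) h').trans ?_
        refine (Functor.liftOfIsRightKanExtension_fac (R.op ⋙ B.op.ran.obj P) α _
          (T.op.ranCounit.app (L.op ⋙ P))).trans ?_
        exact (Category.id_comp _).symm
    haveI : IsIso ((sheafToPresheaf J₂ AddCommGrpCat.{u}).map dN) := this
    exact isIso_of_reflects_iso dN (sheafToPresheaf J₂ AddCommGrpCat.{u})
  exact NatIso.isIso_of_isIso_app _

/-- Base change for the left adjoints of restrictions. -/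
def c : resT (J₁ := J₁) (J₂ := J₂) T ⋙ L.sheafPullback AddCommGrpCat.{u} J₁ J₃ ⟶
    R.sheafPullback AddCommGrpCat.{u} J₂ J₄ ⋙ B.sheafPushforwardContinuous AddCommGrpCat.{u} J₃ J₄ where
  app M := ((L.sheafAdjunctionContinuous AddCommGrpCat.{u} J₁ J₃).homEquiv _ _).symm
    ((resT T).map ((R.sheafAdjunctionContinuous AddCommGrpCat.{u} J₂ J₄).unit.app M) ≫
      (s T L R B w).app ((R.sheafPullback AddCommGrpCat.{u} J₂ J₄).obj M))
  naturality M M' g := by
    refine ((L.sheafAdjunctionContinuous AddCommGrpCat.{u} J₁ J₃).homEquiv_naturality_left_symm _ _).symm.trans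
      (Eq.trans ?_ ((L.sheafAdjunctionContinuous AddCommGrpCat.{u} J₁ J₃).homEquiv_naturality_right_symm _ _))
    refine congrArg _ ?_
    rw [← Category.assoc]
    refine (congrArg (· ≫ _) (((resT T).map_comp _ _).symm.trans ((congrArg _
      ((R.sheafAdjunctionContinuous AddCommGrpCat.{u} J₂ J₄).unit.naturality g)).trans ((resT T).map_comp _ _)))).trans ?_
    refine (Category.assoc _ _ _).trans (Eq.trans ?_ (Category.assoc _ _ _).symm)
    exact congrArg (_ ≫ ·) ((s T L R B w).naturality _)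

/-- The defining property of the base change map for the left adjoints. -/
lemma rel_c (M : Sheaf J₂ AddCommGrpCat.{u}) :
    (L.sheafAdjunctionContinuous AddCommGrpCat.{u} J₁ J₃).unit.app ((resT (J₁ := J₁) (J₂ := J₂) T).obj M) ≫
        (L.sheafPushforwardContinuous AddCommGrpCat.{u} J₁ J₃).map ((c (J₃ := J₃) (J₄ := J₄) T L R B w).app M) =
      (resT T).map ((R.sheafAdjunctionContinuous AddCommGrpCat.{u} J₂ J₄).unit.app M) ≫
        (s T L R B w).app ((R.sheafPullback AddCommGrpCat.{u} J₂ J₄).obj M) :=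
  ((L.sheafAdjunctionContinuous AddCommGrpCat.{u} J₁ J₃).homEquiv_unit _ _ _).symm.trans
    (((L.sheafAdjunctionContinuous AddCommGrpCat.{u} J₁ J₃).homEquiv _ _).apply_symm_apply _)

/-- The defining property of the base change map for the right adjoints. -/
lemma rel_d (Y : Sheaf J₄ AddCommGrpCat.{u}) :
    (T.sheafAdjunctionCocontinuous AddCommGrpCat.{u} J₁ J₂).unit.app
          ((R.sheafPushforwardContinuous AddCommGrpCat.{u} J₂ J₄).obj Y) ≫
        (T.sheafPushforwardCocontinuous AddCommGrpCat.{u} J₁ J₂).map ((s T L R B w).app Y) =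
      (R.sheafPushforwardContinuous AddCommGrpCat.{u} J₂ J₄).map
          ((B.sheafAdjunctionCocontinuous AddCommGrpCat.{u} J₃ J₄).unit.app Y) ≫
        (d T L R B w).app ((B.sheafPushforwardContinuous AddCommGrpCat.{u} J₃ J₄).obj Y) := by
  let adjT := T.sheafAdjunctionCocontinuous AddCommGrpCat.{u} J₁ J₂
  let adjB := B.sheafAdjunctionCocontinuous AddCommGrpCat.{u} J₃ J₄
  refine Eq.trans ?_ (adjT.homEquiv_naturality_left _ _)
  refine ((adjT.homEquiv_unit _ _ _).symm).trans ?_
  refine congrArg _ ?_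
  rw [← Category.assoc]
  refine Eq.trans ?_ ((congrArg (· ≫ _) ((s T L R B w).naturality (adjB.unit.app Y))).trans (Category.assoc _ _ _)).symm
  refine Eq.trans ?_ (congrArg (_ ≫ ·) ((L.sheafPushforwardContinuous AddCommGrpCat.{u} J₁ J₃).map_comp _ _))
  refine Eq.trans ?_ (congrArg (fun q => (s T L R B w).app Y ≫ (L.sheafPushforwardContinuous AddCommGrpCat.{u} J₁ J₃).map q)
    (adjB.left_triangle_components Y)).symm
  exact ((congrArg (_ ≫ ·) ((L.sheafPushforwardContinuous AddCommGrpCat.{u} J₁ J₃).map_id _)).trans (Category.comp_id _)).symm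

/-- The base change map for the left adjoints is invertible for an exact square. -/
theorem isIso_c [(TwoSquare.mk L T B R w).GuitartExact] : IsIso (c (J₁ := J₁) (J₂ := J₂) (J₃ := J₃) (J₄ := J₄) T L R B w) := by
  haveI := isIso_d (J₁ := J₁) (J₂ := J₂) (J₃ := J₃) (J₄ := J₄) T L R B w
  let adjT := T.sheafAdjunctionCocontinuous AddCommGrpCat.{u} J₁ J₂
  let adjB := B.sheafAdjunctionCocontinuous AddCommGrpCat.{u} J₃ J₄
  let adjL := L.sheafAdjunctionContinuous AddCommGrpCat.{u} J₁ J₃
  let adjR := R.sheafAdjunctionContinuous AddCommGrpCat.{u} J₂ J₄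
  haveI : ∀ M, IsIso ((c (J₁ := J₁) (J₂ := J₂) (J₃ := J₃) (J₄ := J₄) T L R B w).app M) := fun M => by
    let cM := (c (J₁ := J₁) (J₂ := J₂) (J₃ := J₃) (J₄ := J₄) T L R B w).app M
    have key : ∀ N : Sheaf J₃ AddCommGrpCat.{u},
        Function.Bijective fun x : (R.sheafPullback AddCommGrpCat.{u} J₂ J₄ ⋙
          B.sheafPushforwardContinuous AddCommGrpCat.{u} J₃ J₄).obj M ⟶ N => cM ≫ x := by
      intro N
      let dN := (d (J₁ := J₁) (J₂ := J₂) (J₃ := J₃) (J₄ := J₄) T L R B w).app N
      have heq : ∀ x : (R.sheafPullback AddCommGrpCat.{u} J₂ J₄ ⋙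
          B.sheafPushforwardContinuous AddCommGrpCat.{u} J₃ J₄).obj M ⟶ N, adjT.homEquiv _ _ (adjL.homEquiv _ _ (cM ≫ x)) =
          adjR.homEquiv _ _ (adjB.homEquiv _ _ x) ≫ dN := by
        intro x
        refine Eq.trans ?_ (adjT.homEquiv_naturality_left _ _)
        refine congrArg _ ?_
        rw [adjL.homEquiv_naturality_right, adjR.homEquiv_unit]
        refine (congrArg (· ≫ _) (((adjL.homEquiv _ _).apply_symm_apply _))).trans ?_
        refine (Category.assoc _ _ _).trans (Eq.trans ?_ ((congrArg (· ≫ _) ((resT T).map_comp _ _)).trans (Category.assoc _ _ _)).symm)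
        refine congrArg (_ ≫ ·) ?_
        rw [← Category.assoc]
        refine Eq.trans ?_ ((congrArg (· ≫ _) ((s T L R B w).naturality (adjB.homEquiv _ _ x))).trans (Category.assoc _ _ _)).symm
        refine Eq.trans ?_ (congrArg (_ ≫ ·) ((L.sheafPushforwardContinuous AddCommGrpCat.{u} J₁ J₃).map_comp _ _))
        refine congrArg (fun q => (s T L R B w).app _ ≫ (L.sheafPushforwardContinuous AddCommGrpCat.{u} J₁ J₃).map q) ?_
        exact ((adjB.homEquiv_counit _ _ _).symm.trans ((adjB.homEquiv _ _).symm_apply_apply x)).symm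
      have : (fun x => adjT.homEquiv _ _ (adjL.homEquiv _ _ (cM ≫ x))) =
          fun x => adjR.homEquiv _ _ (adjB.homEquiv _ _ x) ≫ dN := funext heq
      have hd : Function.Bijective fun z : M ⟶ (R.sheafPushforwardContinuous AddCommGrpCat.{u} J₂ J₄).obj
          ((B.sheafPushforwardCocontinuous AddCommGrpCat.{u} J₃ J₄).obj N) => z ≫ dN :=
        ⟨fun z z' h => (cancel_mono dN).1 h, fun z => ⟨z ≫ inv dN, by simp⟩⟩
      have hb : Function.Bijective fun x : (R.sheafPullback AddCommGrpCat.{u} J₂ J₄ ⋙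
          B.sheafPushforwardContinuous AddCommGrpCat.{u} J₃ J₄).obj M ⟶ N => adjT.homEquiv _ _ (adjL.homEquiv _ _ (cM ≫ x)) := by
        rw [this]
        exact hd.comp ((adjR.homEquiv _ _).bijective.comp (adjB.homEquiv _ N).bijective)
      exact (Function.Bijective.of_comp_iff' ((adjL.homEquiv _ _).trans (adjT.homEquiv _ _)).bijective _).1 hb
    obtain ⟨r, hr⟩ := (key _).2 (𝟙 _)
    exact ⟨r, hr, (key _).1 (by dsimp only at hr ⊢; rw [← Category.assoc, hr, Category.id_comp, Category.comp_id])⟩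
  exact NatIso.isIso_of_isIso_app _

end Groth.Agent.FibBi.SquareMate
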