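import Groth.Agent.FibSiteLib.TopFam
import Groth.Agent.FibSiteLib.SplitDescent
import Groth.Agent.FibBi.SquareMate
import Groth.Agent.FibBi.LanMono
import Mathlib.CategoryTheory.Products.Basic

/-!
# Change of index of families of spaces
-/

set_option autoImplicit false
set_option backward.isDefEq.respectTransparency false
set_option backward.isDefEq.respectTransparency.types false
set_option linter.style.haveILetI false

universe u

open CategoryTheory CategoryTheory.Limits Opposite TopologicalSpace Pseudofunctor.CoGrothendieck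
open Groth.Agent.FibSiteLib Groth.Agent.FibSiteLib.TopFam

noncomputable section

namespace Groth.Agent.FibBi.FamBC

variable {𝒯 𝒰 : Type} [SmallCategory 𝒯] [SmallCategory 𝒰]

/-- The topology of the total site of a family. -/
abbrev Tot (W : 𝒰 ⥤ TopCat.{u}) := FibSite.totalTopology (topFam W) (top W)

/-- Sheaves on a family. -/
abbrev Sh (W : 𝒰 ⥤ TopCat.{u}) := Sheaf (Tot W) AddCommGrpCat.{u}

variable (ψ : 𝒯 ⥤ 𝒰) (W : 𝒰 ⥤ TopCat.{u})

/-- Change of index. -/
def BC : ∫ᶜ (topFam (ψ ⋙ W)) ⥤ ∫ᶜ (topFam W) where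
  obj X := ⟨ψ.obj X.base, fib (ψ ⋙ W) X⟩
  map {X Y} f := TopFam.mk W (X := ⟨ψ.obj X.base, fib (ψ ⋙ W) X⟩) (W := ⟨ψ.obj Y.base, fib (ψ ⋙ W) Y⟩)
    (ψ.map f.base) (le_of_hom (ψ ⋙ W) f)
  map_id X := TopFam.hom_ext W _ _ (ψ.map_id X.base)
  map_comp f g := TopFam.hom_ext W _ _ (ψ.map_comp f.base g.base)

/-- Fibre inclusions commute with change of index. -/
def ιBC (S : 𝒯) : ι (topFam (ψ ⋙ W)) S ⋙ BC ψ W ≅ ι (topFam W) (ψ.obj S) :=
  NatIso.ofComponents (fun U => Iso.refl _) (fun g => TopFam.hom_ext W _ _ (by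
    show ψ.map (𝟙 S) ≫ 𝟙 _ = 𝟙 _ ≫ 𝟙 (ψ.obj S)
    simp))

instance isContinuous_BC : (BC ψ W).IsContinuous (Tot (ψ ⋙ W)) (Tot W) := by
  refine (isContinuous_total_iff (TopFam.isPreFibSite (ψ ⋙ W)) _ _).2 fun S => ?_
  haveI : (ι (topFam W) (ψ.obj S)).IsContinuous (top (ψ ⋙ W) S) (Tot W) :=
    isContinuous_ι (TopFam.isPreFibSite W) (ψ.obj S)
  exact Functor.isContinuous_of_iso (ιBC ψ W S).symm _ _

instance isCocontinuous_BC : (BC ψ W).IsCocontinuous (Tot (ψ ⋙ W)) (Tot W) where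
  cover_lift {X T} hT := by
    obtain ⟨T', hT', hle⟩ := (mem_totalTopology_iff (TopFam.isPreFibSite W) _ T).1 hT
    refine (mem_totalTopology_iff (TopFam.isPreFibSite (ψ ⋙ W)) _ _).2 ⟨T', hT', ?_⟩
    rintro Z _ ⟨V, h, k, hh, rfl⟩
    show T.arrows ((BC ψ W).map _)
    rw [Functor.map_comp]
    refine T.downward_closed ?_ _
    have heq : (BC ψ W).map ((ι (topFam (ψ ⋙ W)) X.base).map h) = (ι (topFam W) (ψ.obj X.base)).map h :=
      TopFam.hom_ext W _ _ (ψ.map_id X.base)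
    exact Eq.mpr (congrArg (fun q => T.arrows q) heq) (hle _ (Sieve.image_mem_functorPushforward _ _ hh))

section Maps

variable {W} {Z Z'' : 𝒰 ⥤ TopCat.{u}} (β : Z ⟶ W)

instance : (TopFam.K β).IsContinuous (Tot W) (Tot Z) := TopFam.isContinuous_K β

instance flat_K : RepresentablyFlat (TopFam.K β) where
  cofiltered X :=
    haveI : IsCofilteredOrEmpty (StructuredArrow X (TopFam.K β)) :=
      { cone_objs := fun a b => by
          let V : Opens (W.obj X.base) :=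
            (Opens.map (W.map a.hom.base)).obj (fib W a.right) ⊓ (Opens.map (W.map b.hom.base)).obj (fib W b.right)
          let C : ∫ᶜ (topFam W) := ⟨X.base, V⟩
          let f : X ⟶ (TopFam.K β).obj C := TopFam.mk Z (X := X) (𝟙 X.base) (fun x hx => by
            have ha := le_of_hom Z a.hom hx
            have hb := le_of_hom Z b.hom hx
            show β.app X.base (Z.map (𝟙 X.base) x) ∈ V
            rw [Z.map_id]
            refine ⟨?_, ?_⟩
            · show W.map a.hom.base (β.app X.base x) ∈ fib W a.right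
              rw [β_map β]
              exact ha
            · show W.map b.hom.base (β.app X.base x) ∈ fib W b.right
              rw [β_map β]
              exact hb)
          exact ⟨StructuredArrow.mk f,
            StructuredArrow.homMk (TopFam.mk W (X := C) a.hom.base inf_le_left) (TopFam.hom_ext Z _ _ (Category.id_comp _)),
            StructuredArrow.homMk (TopFam.mk W (X := C) b.hom.base inf_le_right) (TopFam.hom_ext Z _ _ (Category.id_comp _)),
            trivial⟩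
        cone_maps := fun a b m₁ m₂ => by
          let C : ∫ᶜ (topFam W) := ⟨X.base, (Opens.map (W.map a.hom.base)).obj (fib W a.right)⟩
          let f : X ⟶ (TopFam.K β).obj C := TopFam.mk Z (X := X) (𝟙 X.base) (fun x hx => by
            show β.app X.base (Z.map (𝟙 X.base) x) ∈ (Opens.map (W.map a.hom.base)).obj (fib W a.right)
            rw [Z.map_id]
            show W.map a.hom.base (β.app X.base x) ∈ fib W a.right
            rw [β_map β]
            exact le_of_hom Z a.hom hx)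
          refine ⟨StructuredArrow.mk f,
            StructuredArrow.homMk (TopFam.mk W (X := C) a.hom.base le_rfl) (TopFam.hom_ext Z _ _ (Category.id_comp _)), ?_⟩
          refine StructuredArrow.ext _ _ (TopFam.hom_ext W _ _ ?_)
          show a.hom.base ≫ m₁.right.base = a.hom.base ≫ m₂.right.base
          exact (congrArg Hom.base (StructuredArrow.w m₁)).trans (congrArg Hom.base (StructuredArrow.w m₂)).symm }
    haveI : Nonempty (StructuredArrow X (TopFam.K β)) :=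
      ⟨StructuredArrow.mk (Y := (⟨X.base, (⊤ : Opens _)⟩ : ∫ᶜ (topFam W)))
        (TopFam.mk Z (X := X) (𝟙 X.base) (fun x _ => trivial))⟩
    {}

/-- Inverse image along a map of families. -/
abbrev pb : Sh W ⥤ Sh Z := (TopFam.K β).sheafPullback AddCommGrpCat.{u} (Tot W) (Tot Z)

/-- The direct image along a map of families. -/
abbrev pf : Sh Z ⥤ Sh W := (TopFam.K β).sheafPushforwardContinuous AddCommGrpCat.{u} (Tot W) (Tot Z)

/-- Composites of maps of families. -/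
def KComp (γ : Z'' ⟶ Z) : TopFam.K β ⋙ TopFam.K γ ≅ TopFam.K (γ ≫ β) :=
  NatIso.ofComponents (fun X => Iso.refl _) (fun f => TopFam.hom_ext Z'' _ _
    ((Category.comp_id _).trans (Category.id_comp _).symm))

/-- Composites of inverse images. -/
def pbComp (γ : Z'' ⟶ Z) : pb β ⋙ pb γ ≅ pb (γ ≫ β) :=
  haveI := Functor.isContinuous_comp (TopFam.K β) (TopFam.K γ) (Tot W) (Tot Z) (Tot Z'')
  Adjunction.leftAdjointUniq
    (((TopFam.K β).sheafAdjunctionContinuous AddCommGrpCat.{u} (Tot W) (Tot Z)).comp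
      ((TopFam.K γ).sheafAdjunctionContinuous AddCommGrpCat.{u} (Tot Z) (Tot Z'')))
    (((TopFam.K (γ ≫ β)).sheafAdjunctionContinuous AddCommGrpCat.{u} (Tot W) (Tot Z'')).ofNatIsoRight
      (Functor.sheafPushforwardContinuousComp' (KComp β γ) AddCommGrpCat.{u} (Tot W) (Tot Z) (Tot Z'')).symm)

/-- The square of a map of families and a change of index. -/
abbrev w : TopFam.K (Functor.whiskerLeft ψ β) ⋙ BC ψ Z ⟶ BC ψ W ⋙ TopFam.K β :=
  (NatIso.ofComponents (fun X => Iso.refl _) (fun f => TopFam.hom_ext Z _ _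
    ((Category.comp_id _).trans (Category.id_comp _).symm)) :
      TopFam.K (Functor.whiskerLeft ψ β) ⋙ BC ψ Z ≅ BC ψ W ⋙ TopFam.K β).hom

instance guitartExact_w :
    (TwoSquare.mk (TopFam.K (Functor.whiskerLeft ψ β)) (BC ψ W) (BC ψ Z) (TopFam.K β) (w ψ β)).GuitartExact := by
  rw [TwoSquare.guitartExact_iff_isConnected_rightwards]
  intro U X₂ g
  let sq := TwoSquare.mk (TopFam.K (Functor.whiskerLeft ψ β)) (BC ψ W) (BC ψ Z) (TopFam.K β) (w ψ β)
  let V₀ : Opens (W.obj (ψ.obj U.base)) := (Opens.map (W.map g.base)).obj (fib W X₂)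
  let M : ∫ᶜ (topFam (ψ ⋙ W)) := ⟨U.base, V₀⟩
  have hV₀ : fib (ψ ⋙ Z) U ≤ (Opens.map (β.app (ψ.obj U.base))).obj V₀ := fun x hx => by
    show W.map g.base (β.app _ x) ∈ fib W X₂
    rw [β_map β]
    exact le_of_hom Z g hx
  let j₀ : sq.StructuredArrowRightwards g := TwoSquare.StructuredArrowRightwards.mk sq g M
    (TopFam.mk (ψ ⋙ Z) (X := U) (𝟙 U.base) (fun x hx => by
      show (β.app (ψ.obj U.base)) ((ψ ⋙ Z).map (𝟙 U.base) x) ∈ V₀
      rw [(ψ ⋙ Z).map_id]
      exact hV₀ hx))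
    (TopFam.mk W (X := (BC ψ W).obj M) g.base le_rfl)
    (TopFam.hom_ext Z _ _ (by
      show ψ.map (𝟙 U.base) ≫ 𝟙 _ ≫ g.base = g.base
      simp))
  have key : ∀ j, Zigzag j j₀ := fun j => by
    obtain ⟨X₁, a, b, hab, rfl⟩ := TwoSquare.StructuredArrowRightwards.mk_surjective j
    have hb : ψ.map a.base ≫ b.base = g.base :=
      (congrArg (ψ.map a.base ≫ ·) (Category.id_comp _).symm).trans (congrArg Hom.base hab)
    let N : ∫ᶜ (topFam (ψ ⋙ W)) := ⟨U.base, (Opens.map (W.map (ψ.map a.base))).obj (fib (ψ ⋙ W) X₁)⟩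
    have hN : fib (ψ ⋙ Z) U ≤ (Opens.map (β.app (ψ.obj U.base))).obj (fib (ψ ⋙ W) N) := fun x hx => by
      show W.map (ψ.map a.base) (β.app _ x) ∈ fib (ψ ⋙ W) X₁
      rw [β_map β]
      exact le_of_hom (ψ ⋙ Z) a hx
    let b' : (BC ψ W).obj N ⟶ X₂ :=
      TopFam.mk W (X := (BC ψ W).obj N) g.base (fun x hx => by
        show W.map g.base x ∈ fib W X₂
        rw [← hb]
        have := le_of_hom W b hx
        exact (ConcreteCategory.congr_hom (W.map_comp (ψ.map a.base) b.base) x).symm ▸ this)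
    let jN : sq.StructuredArrowRightwards g := TwoSquare.StructuredArrowRightwards.mk sq g N
      (TopFam.mk (ψ ⋙ Z) (X := U) (𝟙 U.base) (fun x hx => by
        show (β.app (ψ.obj U.base)) ((ψ ⋙ Z).map (𝟙 U.base) x) ∈ fib (ψ ⋙ W) N
        rw [(ψ ⋙ Z).map_id]
        exact hN hx)) b'
      (TopFam.hom_ext Z _ _ (by
        show ψ.map (𝟙 U.base) ≫ 𝟙 _ ≫ g.base = g.base
        simp))
    let n₁ : N ⟶ X₁ := TopFam.mk (ψ ⋙ W) (X := N) a.base le_rfl
    let n₀ : N ⟶ M := TopFam.mk (ψ ⋙ W) (X := N) (𝟙 U.base) (fun x hx => by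
      show (ψ ⋙ W).map (𝟙 U.base) x ∈ V₀
      rw [(ψ ⋙ W).map_id]
      exact le_of_hom W b' hx)
    refine (Zigzag.of_inv (show jN ⟶ TwoSquare.StructuredArrowRightwards.mk sq g X₁ a b hab from
      StructuredArrow.homMk (CostructuredArrow.homMk n₁ (TopFam.hom_ext W _ _ hb)) ?_)).trans (Zigzag.of_hom (StructuredArrow.homMk (CostructuredArrow.homMk n₀
      (TopFam.hom_ext W _ _ (by show ψ.map (𝟙 _) ≫ g.base = g.base; simp))) ?_))
    · exact CostructuredArrow.hom_ext _ _ (TopFam.hom_ext (ψ ⋙ Z) _ _ (Category.id_comp _))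
    · exact CostructuredArrow.hom_ext _ _ (TopFam.hom_ext (ψ ⋙ Z) _ _ (Category.id_comp _))
  haveI : Nonempty (sq.StructuredArrowRightwards g) := ⟨j₀⟩
  exact zigzag_isConnected fun j₁ j₂ => (key j₁).trans (key j₂).symm

end Maps

/-- Restriction along a change of index. -/
abbrev res : Sh W ⥤ Sh (ψ ⋙ W) := (BC ψ W).sheafPushforwardContinuous AddCommGrpCat.{u} (Tot (ψ ⋙ W)) (Tot W)

/-- Composites of changes of index. -/
def BCComp {𝒮 : Type} [SmallCategory 𝒮] (χ : 𝒮 ⥤ 𝒯) : BC χ (ψ ⋙ W) ⋙ BC ψ W ≅ BC (χ ⋙ ψ) W :=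
  NatIso.ofComponents (fun X => Iso.refl _) (fun f => TopFam.hom_ext W _ _
    ((Category.comp_id _).trans (Category.id_comp _).symm))

variable {W} {Z : 𝒯 ⥤ TopCat.{u}} (β : Z ⟶ ψ ⋙ W)

/-- Inverse image along a map over a change of index. -/
abbrev Φ : Sh W ⥤ Sh Z := res ψ W ⋙ pb β

/-- The direct image. -/
abbrev Φr : Sh Z ⥤ Sh W :=
  pf β ⋙ (BC ψ W).sheafPushforwardCocontinuous AddCommGrpCat.{u} (Tot (ψ ⋙ W)) (Tot W)

/-- The adjunction. -/
abbrev adjΦ : Φ ψ β ⊣ Φr ψ β :=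
  ((BC ψ W).sheafAdjunctionCocontinuous AddCommGrpCat.{u} (Tot (ψ ⋙ W)) (Tot W)).comp
    ((TopFam.K β).sheafAdjunctionContinuous AddCommGrpCat.{u} (Tot (ψ ⋙ W)) (Tot Z))

instance lex_res : PreservesFiniteLimits (res ψ W) :=
  SplitDescent.lex_of_adj ((BC ψ W).sheafAdjunctionContinuous AddCommGrpCat.{u} (Tot (ψ ⋙ W)) (Tot W))

instance rex_res : PreservesFiniteColimits (res ψ W) :=
  SplitDescent.rex_of_adj ((BC ψ W).sheafAdjunctionCocontinuous AddCommGrpCat.{u} (Tot (ψ ⋙ W)) (Tot W))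

instance lex_pb : PreservesFiniteLimits (pb β) :=
  SplitDescent.lex_pullback _ _ (TopFam.K β)

instance rex_pb : PreservesFiniteColimits (pb β) :=
  SplitDescent.rex_of_adj ((TopFam.K β).sheafAdjunctionContinuous AddCommGrpCat.{u} (Tot (ψ ⋙ W)) (Tot Z))

instance lex_Φ : PreservesFiniteLimits (Φ ψ β) := comp_preservesFiniteLimits _ _

instance rex_Φ : PreservesFiniteColimits (Φ ψ β) := comp_preservesFiniteColimits _ _

instance additive_Φ : (Φ ψ β).Additive :=
  haveI : PreservesLimitsOfShape (Discrete WalkingPair) (Φ ψ β) := PreservesFiniteLimits.preservesFiniteLimits _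
  Functor.additive_of_preserves_binary_products _

instance additive_Φr : (Φr ψ β).Additive :=
  haveI : PreservesLimitsOfSize.{0, 0} (Φr ψ β) := (adjΦ ψ β).rightAdjoint_preservesLimits
  haveI : PreservesLimitsOfShape (Discrete WalkingPair) (Φr ψ β) := inferInstance
  Functor.additive_of_preserves_binary_products _

instance isIso_c_BC : IsIso (SquareMate.c (J₁ := Tot (ψ ⋙ W)) (J₂ := Tot W) (J₃ := Tot (ψ ⋙ W)) (J₄ := Tot W)
    (BC ψ W) (TopFam.K (Functor.whiskerLeft ψ (𝟙 W))) (TopFam.K (𝟙 W)) (BC ψ W) (w ψ (𝟙 W))) :=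
  SquareMate.isIso_c _ _ _ _ _

/-- Composites of inverse images over changes of index. -/
def ΦComp {𝒮 : Type} [SmallCategory 𝒮] (χ : 𝒮 ⥤ 𝒯) {Y : 𝒮 ⥤ TopCat.{u}} (γ : Y ⟶ χ ⋙ Z) :
    Φ ψ β ⋙ Φ χ γ ≅ Φ (χ ⋙ ψ) (W := W) (γ ≫ Functor.whiskerLeft χ β) :=
  haveI : (BC (χ ⋙ ψ) W).IsContinuous (Tot (χ ⋙ ψ ⋙ W)) (Tot W) := isContinuous_BC (χ ⋙ ψ) W
  haveI := Functor.isContinuous_comp (BC χ (ψ ⋙ W)) (BC ψ W) (Tot (χ ⋙ ψ ⋙ W)) (Tot (ψ ⋙ W)) (Tot W)
  haveI := SquareMate.isIso_c (J₁ := Tot (χ ⋙ ψ ⋙ W)) (J₂ := Tot (ψ ⋙ W)) (J₃ := Tot (χ ⋙ Z)) (J₄ := Tot Z)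
    (BC χ (ψ ⋙ W)) (TopFam.K (Functor.whiskerLeft χ β)) (TopFam.K β) (BC χ Z) (w χ β)
  Functor.associator _ _ _ ≪≫
    Functor.isoWhiskerLeft (res ψ W) ((Functor.associator _ _ _).symm ≪≫
      Functor.isoWhiskerRight (asIso (SquareMate.c (J₁ := Tot (χ ⋙ ψ ⋙ W)) (J₂ := Tot (ψ ⋙ W)) (J₃ := Tot (χ ⋙ Z))
        (J₄ := Tot Z) (BC χ (ψ ⋙ W)) (TopFam.K (Functor.whiskerLeft χ β)) (TopFam.K β) (BC χ Z) (w χ β))).symm (pb γ) ≪≫
      Functor.associator _ _ _ ≪≫
      Functor.isoWhiskerLeft (res χ (ψ ⋙ W)) (pbComp (Functor.whiskerLeft χ β) γ)) ≪≫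
    (Functor.associator _ _ _).symm ≪≫
    Functor.isoWhiskerRight
      (Functor.sheafPushforwardContinuousComp' (BCComp ψ W χ) AddCommGrpCat.{u} (Tot (χ ⋙ ψ ⋙ W)) (Tot (ψ ⋙ W)) (Tot W))
      (pb (W := χ ⋙ ψ ⋙ W) (γ ≫ Functor.whiskerLeft χ β))

section Column

variable {𝒦 : Type} [SmallCategory 𝒦] (Z₂ : 𝒦 × 𝒰 ⥤ TopCat.{u}) (n : 𝒰)

/-- A column. -/
abbrev col : 𝒦 ⥤ 𝒦 × 𝒰 := Prod.sectL 𝒦 n

lemma colMap {k k' : 𝒦} (a : k ⟶ k') : (col n).map a = ((a, 𝟙 n) : (k, n) ⟶ (k', n)) := rfl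

open scoped Classical in
theorem multiFlat_col : LanMono.MultiFlat (BC (col n) Z₂) := fun d => by
  refine ⟨ULift.{u} (d.unop.base.2 ⟶ n), fun j => ⟨j.hom.unop.base.2⟩, ?_, ?_⟩
  · intro j k f
    have h := congrArg (fun q => q.unop.base.2) (CostructuredArrow.w f)
    dsimp at h
    refine ULift.ext _ _ ?_
    show j.hom.unop.base.2 = k.hom.unop.base.2
    exact (h.symm.trans (Category.comp_id _))
  · rintro ⟨i, j₀, rfl⟩
    obtain ⟨f⟩ : ULift.{u} (d.unop.base.2 ⟶ n) := ⟨j₀.hom.unop.base.2⟩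
    let e := j₀.hom.unop.base.2
    let k₀ := d.unop.base.1
    have hfac : ∀ (j : CostructuredArrow (BC (col n) Z₂).op d) (_ : j.hom.unop.base.2 = e),
        ((𝟙 k₀, e) : d.unop.base ⟶ (k₀, n)) ≫ (col n).map j.hom.unop.base.1 = j.hom.unop.base := fun j hj => by
      refine Prod.ext ?_ ?_
      · exact Category.id_comp _
      · exact (Category.comp_id _).trans hj.symm
    let pre : ∀ (j : CostructuredArrow (BC (col n) Z₂).op d), Opens ((col n ⋙ Z₂).obj k₀) := fun j =>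
      (Opens.map ((col n ⋙ Z₂).map j.hom.unop.base.1)).obj (fib (col n ⋙ Z₂) j.left.unop)
    let mk : ∀ (V : Opens ((col n ⋙ Z₂).obj k₀))
        (_ : fib Z₂ d.unop ≤ (Opens.map (Z₂.map ((𝟙 k₀, e) : d.unop.base ⟶ (k₀, n)))).obj V),
        CostructuredArrow (BC (col n) Z₂).op d := fun V hV =>
      CostructuredArrow.mk (Y := op (⟨k₀, V⟩ : ∫ᶜ (topFam (col n ⋙ Z₂))))
        (show (BC (col n) Z₂).op.obj (op ⟨k₀, V⟩) ⟶ d from
          (TopFam.mk Z₂ (X := d.unop) (W := (BC (col n) Z₂).obj ⟨k₀, V⟩) (𝟙 k₀, e) hV).op)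
    have hpre : ∀ (j : CostructuredArrow (BC (col n) Z₂).op d) (_ : j.hom.unop.base.2 = e),
        fib Z₂ d.unop ≤ (Opens.map (Z₂.map ((𝟙 k₀, e) : d.unop.base ⟶ (k₀, n)))).obj (pre j) := fun j hj => by
      refine (le_of_hom Z₂ j.hom.unop).trans (le_of_eq ?_)
      show _ = (Opens.map _).obj ((Opens.map _).obj _)
      rw [← Opens.map_comp_obj]
      refine congrArg (fun q => (Opens.map q).obj _) ?_
      exact (congrArg Z₂.map (hfac j hj).symm).trans (Z₂.map_comp _ _)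
    haveI : Nonempty (LanMono.Comp (fun j : CostructuredArrow (BC (col n) Z₂).op d =>
        (⟨j.hom.unop.base.2⟩ : ULift.{u} (d.unop.base.2 ⟶ n))) ⟨⟨e⟩, j₀, rfl⟩) := ⟨⟨j₀, rfl⟩⟩
    refine { cocone_objs := fun a b => ?_, cocone_maps := fun a b p q => ?_ }
    · have ha : a.obj.hom.unop.base.2 = e := congrArg ULift.down a.property
      have hb : b.obj.hom.unop.base.2 = e := congrArg ULift.down b.property
      let V : Opens ((col n ⋙ Z₂).obj k₀) := pre a.obj ⊓ pre b.obj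
      refine ⟨⟨mk V (fun x hx => ⟨hpre a.obj ha hx, hpre b.obj hb hx⟩), rfl⟩,
        ObjectProperty.homMk (CostructuredArrow.homMk
          (TopFam.mk (col n ⋙ Z₂) (X := ⟨k₀, V⟩) (W := a.obj.left.unop) a.obj.hom.unop.base.1 inf_le_left).op
          (Quiver.Hom.unop_inj (TopFam.hom_ext Z₂ _ _ (hfac a.obj ha)))),
        ObjectProperty.homMk (CostructuredArrow.homMk
          (TopFam.mk (col n ⋙ Z₂) (X := ⟨k₀, V⟩) (W := b.obj.left.unop) b.obj.hom.unop.base.1 inf_le_right).op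
          (Quiver.Hom.unop_inj (TopFam.hom_ext Z₂ _ _ (hfac b.obj hb)))), trivial⟩
    · have hb : b.obj.hom.unop.base.2 = e := congrArg ULift.down b.property
      refine ⟨⟨mk (pre b.obj) (hpre b.obj hb), rfl⟩,
        ObjectProperty.homMk (CostructuredArrow.homMk
          (TopFam.mk (col n ⋙ Z₂) (X := ⟨k₀, pre b.obj⟩) (W := b.obj.left.unop) b.obj.hom.unop.base.1 le_rfl).op
          (Quiver.Hom.unop_inj (TopFam.hom_ext Z₂ _ _ (hfac b.obj hb)))), ?_⟩
      refine ObjectProperty.hom_ext _ (CostructuredArrow.hom_ext _ _ (Quiver.Hom.unop_inj (TopFam.hom_ext (col n ⋙ Z₂) _ _ ?_)))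
      show b.obj.hom.unop.base.1 ≫ p.hom.left.unop.base = b.obj.hom.unop.base.1 ≫ q.hom.left.unop.base
      exact (congrArg (fun z => z.unop.base.1) (CostructuredArrow.w p.hom)).trans
        (congrArg (fun z => z.unop.base.1) (CostructuredArrow.w q.hom)).symm

theorem lex_pullback_col :
    PreservesFiniteLimits ((BC (col n) Z₂).sheafPullback AddCommGrpCat.{u} (Tot (col n ⋙ Z₂)) (Tot Z₂)) :=
  LanMono.lex_sheafPullback (multiFlat_col Z₂ n)

end Column

end Groth.Agent.FibBi.FamBC
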