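import Groth.Agent.FibBi.FamBC
import Groth.Agent.FibBi.DerivedFibrewise
import Mathlib.CategoryTheory.Abelian.GrothendieckAxioms.Sheaf
import Mathlib.CategoryTheory.Abelian.GrothendieckCategory.EnoughInjectives

/-!
# Descent for a doubly indexed family is checked on the columns
-/

set_option autoImplicit false
set_option backward.isDefEq.respectTransparency false
set_option backward.isDefEq.respectTransparency.types false
set_option linter.style.haveILetI false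

universe u

open CategoryTheory CategoryTheory.Limits Opposite TopologicalSpace Pseudofunctor.CoGrothendieck
open Groth.Agent.FibSiteLib Groth.Agent.FibSiteLib.TopFam Groth.Agent.FibBi.FamBC

noncomputable section

namespace Groth.Agent.FibBi.Fibrewise

/-- The one point index category. -/
abbrev Pt : Type := Discrete PUnit.{1}

variable {𝒦 𝒰 : Type} [SmallCategory 𝒦] [SmallCategory 𝒰]

/-- A point of the index category. -/
abbrev pt (n : 𝒰) : Pt ⥤ 𝒰 := (Functor.const Pt).obj n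

variable (𝒦) in
/-- The projection to the point. -/
abbrev toPt : 𝒦 ⥤ Pt := (Functor.const 𝒦).obj ⟨PUnit.unit⟩

/-- The second projection. -/
abbrev π : 𝒦 × 𝒰 ⥤ 𝒰 := CategoryTheory.Prod.snd 𝒦 𝒰

variable (W : 𝒰 ⥤ TopCat.{u}) {Z : 𝒦 × 𝒰 ⥤ TopCat.{u}} (β : Z ⟶ π ⋙ W) (n : 𝒰)

/-- The map of a column. -/
abbrev βn : col (𝒦 := 𝒦) n ⋙ Z ⟶ toPt 𝒦 ⋙ (pt n ⋙ W) := Functor.whiskerLeft (col n) β

/-- The inclusion of a column, seen from the point. -/
def L₀ : ∫ᶜ (topFam (toPt 𝒦 ⋙ (pt n ⋙ W))) ⥤ ∫ᶜ (topFam (π (𝒦 := 𝒦) ⋙ W)) := BC (col (𝒦 := 𝒦) n) (π ⋙ W)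

instance : (L₀ (𝒦 := 𝒦) W n).IsContinuous (Tot (toPt 𝒦 ⋙ (pt n ⋙ W))) (Tot (π ⋙ W)) :=
  isContinuous_BC _ _

/-- The square of a column. -/
abbrev wπ : L₀ (𝒦 := 𝒦) W n ⋙ BC π W ⟶ BC (toPt 𝒦) (pt n ⋙ W) ⋙ BC (pt n) W :=
  (NatIso.ofComponents (fun X => Iso.refl _) (fun f => TopFam.hom_ext W _ _
    ((Category.comp_id _).trans (Category.id_comp _).symm)) :
      L₀ (𝒦 := 𝒦) W n ⋙ BC π W ≅ BC (toPt 𝒦) (pt n ⋙ W) ⋙ BC (pt n) W).hom

instance guitartExact_wπ :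
    (TwoSquare.mk (L₀ (𝒦 := 𝒦) W n) (BC (toPt 𝒦) (pt n ⋙ W)) (BC π W) (BC (pt n) W)
      (wπ W n)).GuitartExact := by
  rw [TwoSquare.guitartExact_iff_isConnected_rightwards]
  intro U X₂ g
  let sq := TwoSquare.mk (L₀ (𝒦 := 𝒦) W n) (BC (toPt 𝒦) (pt n ⋙ W)) (BC π W) (BC (pt n) W) (wπ W n)
  let f : U.base.2 ⟶ n := g.base
  let k₀ : 𝒦 := U.base.1
  let M : ∫ᶜ (topFam (toPt 𝒦 ⋙ (pt n ⋙ W))) := ⟨k₀, fib (pt n ⋙ W) X₂⟩
  let j₀ : sq.StructuredArrowRightwards g := TwoSquare.StructuredArrowRightwards.mk sq g M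
    (TopFam.mk (π ⋙ W) (X := U) (W := (BC (col n) (π ⋙ W)).obj M) ((𝟙 k₀, f) : U.base ⟶ (k₀, n))
      (fun x hx => le_of_hom W g hx))
    (TopFam.mk (pt n ⋙ W) (X := (BC (toPt 𝒦) (pt n ⋙ W)).obj M) (W := X₂) ⟨⟨Subsingleton.elim _ _⟩⟩ (fun x hx => by
      show W.map (𝟙 n) x ∈ fib (pt n ⋙ W) X₂
      rw [W.map_id]
      exact hx))
    (TopFam.hom_ext W _ _ (by
      show f ≫ 𝟙 n ≫ 𝟙 n = g.base
      simp only [Category.comp_id, f]))
  have key : ∀ j, Zigzag j j₀ := fun j => by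
    obtain ⟨X₁, a, b, hab, rfl⟩ := TwoSquare.StructuredArrowRightwards.mk_surjective j
    have hf : a.base.2 = f := by
      have h := congrArg Hom.base hab
      change a.base.2 ≫ 𝟙 n ≫ 𝟙 n = g.base at h
      exact ((Category.comp_id _).symm.trans (congrArg (a.base.2 ≫ ·) (Category.comp_id _)).symm).trans h
    let N : ∫ᶜ (topFam (toPt 𝒦 ⋙ (pt n ⋙ W))) := ⟨k₀, fib (toPt 𝒦 ⋙ (pt n ⋙ W)) X₁⟩
    let bN : (BC (toPt 𝒦) (pt n ⋙ W)).obj N ⟶ X₂ :=
      TopFam.mk (pt n ⋙ W) ⟨⟨Subsingleton.elim _ _⟩⟩ (fun x hx => by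
        show W.map (𝟙 n) x ∈ fib (pt n ⋙ W) X₂
        have := le_of_hom (pt n ⋙ W) b hx
        exact this)
    let jN : sq.StructuredArrowRightwards g := TwoSquare.StructuredArrowRightwards.mk sq g N
      (TopFam.mk (π ⋙ W) (X := U) (W := (BC (col n) (π ⋙ W)).obj N) ((𝟙 k₀, f) : U.base ⟶ (k₀, n))
        (fun x hx => by
          show W.map f x ∈ fib (toPt 𝒦 ⋙ (pt n ⋙ W)) X₁
          rw [← hf]
          exact le_of_hom (π ⋙ W) a hx)) bN
      (TopFam.hom_ext W _ _ (by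
        show f ≫ 𝟙 n ≫ 𝟙 n = g.base
        simp only [Category.comp_id, f]))
    let n₁ : N ⟶ X₁ := TopFam.mk (toPt 𝒦 ⋙ (pt n ⋙ W)) (X := N) a.base.1 (fun x hx => by
      show W.map (𝟙 n) x ∈ fib (toPt 𝒦 ⋙ (pt n ⋙ W)) X₁
      rw [W.map_id]
      exact hx)
    let n₀ : N ⟶ M := TopFam.mk (toPt 𝒦 ⋙ (pt n ⋙ W)) (X := N) (𝟙 k₀) (fun x hx => by
      show W.map (𝟙 n) x ∈ fib (pt n ⋙ W) X₂
      exact le_of_hom (pt n ⋙ W) bN hx)
    refine (Zigzag.of_inv (show jN ⟶ TwoSquare.StructuredArrowRightwards.mk sq g X₁ a b hab from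
      StructuredArrow.homMk (CostructuredArrow.homMk n₁ (TopFam.hom_ext (pt n ⋙ W) _ _ (Subsingleton.elim _ _))) ?_)).trans
      (Zigzag.of_hom (StructuredArrow.homMk
        (CostructuredArrow.homMk n₀ (TopFam.hom_ext (pt n ⋙ W) _ _ (Subsingleton.elim _ _))) ?_))
    · refine CostructuredArrow.hom_ext _ _ (TopFam.hom_ext (π ⋙ W) _ _ (Prod.ext ?_ ?_))
      · exact Category.id_comp a.base.1
      · exact (Category.comp_id f).trans hf.symm
    · exact CostructuredArrow.hom_ext _ _ (TopFam.hom_ext (π ⋙ W) _ _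
        (Prod.ext (Category.id_comp _) (Category.comp_id f)))
  haveI : Nonempty (sq.StructuredArrowRightwards g) := ⟨j₀⟩
  exact zigzag_isConnected fun j₁ j₂ => (key j₁).trans (key j₂).symm

/-- The comparison of restrictions. -/
abbrev sπ : res (pt n) W ⋙ res (toPt 𝒦) (pt n ⋙ W) ⟶ res π W ⋙ res (col n) (π ⋙ W) :=
  SquareMate.s (J₁ := Tot (toPt 𝒦 ⋙ (pt n ⋙ W))) (J₂ := Tot (pt n ⋙ W)) (J₃ := Tot (π ⋙ W)) (J₄ := Tot W)
    (BC (toPt 𝒦) (pt n ⋙ W)) (L₀ (𝒦 := 𝒦) W n) (BC (pt n) W) (BC π W) (wπ W n)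

instance isIso_sπ : IsIso (sπ (𝒦 := 𝒦) W n) := by
  haveI : ∀ N, IsIso ((sπ (𝒦 := 𝒦) W n).app N) := fun N => by
    haveI : IsIso ((sheafToPresheaf _ _).map ((sπ (𝒦 := 𝒦) W n).app N)) := by
      show IsIso (Functor.whiskerRight (NatTrans.op (wπ (𝒦 := 𝒦) W n)) N.obj)
      infer_instance
    exact isIso_of_reflects_iso _ (sheafToPresheaf _ _)
  exact NatIso.isIso_of_isIso_app _

/-- The base change map of a column. -/
abbrev cA : res (col n) (π ⋙ W) ⋙ pb (βn W β n) ⟶ pb β ⋙ res (col n) Z :=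
  SquareMate.c (J₁ := Tot (col n ⋙ π ⋙ W)) (J₂ := Tot (π ⋙ W)) (J₃ := Tot (col n ⋙ Z)) (J₄ := Tot Z)
    (BC (col n) (π ⋙ W)) (TopFam.K (Functor.whiskerLeft (col n) β)) (TopFam.K β) (BC (col n) Z) (FamBC.w (col n) β)

instance isIso_cA : IsIso (cA W β n) := SquareMate.isIso_c _ _ _ _ _

/-- The comparison of direct images. -/
abbrev sA : pf β ⋙ res (col n) (π ⋙ W) ⟶ res (col n) Z ⋙ pf (βn W β n) :=
  SquareMate.s (J₁ := Tot (col n ⋙ π ⋙ W)) (J₂ := Tot (π ⋙ W)) (J₃ := Tot (col n ⋙ Z)) (J₄ := Tot Z)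
    (BC (col n) (π ⋙ W)) (TopFam.K (Functor.whiskerLeft (col n) β)) (TopFam.K β) (BC (col n) Z) (FamBC.w (col n) β)

instance isIso_sA : IsIso (sA W β n) := by
  haveI : ∀ N, IsIso ((sA W β n).app N) := fun N => by
    haveI : IsIso ((sheafToPresheaf _ _).map ((sA W β n).app N)) :=
      inferInstanceAs (IsIso (Functor.whiskerRight (NatTrans.op (FamBC.w (col n) β)) N.obj))
    exact isIso_of_reflects_iso _ (sheafToPresheaf _ _)
  exact NatIso.isIso_of_isIso_app _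

/-- The base change map of direct images. -/
abbrev dπ : (BC π W).sheafPushforwardCocontinuous AddCommGrpCat.{u} (Tot (π ⋙ W)) (Tot W) ⋙ res (pt n) W ⟶
    res (col (𝒦 := 𝒦) n) (π ⋙ W) ⋙ (BC (toPt 𝒦) (pt n ⋙ W)).sheafPushforwardCocontinuous AddCommGrpCat.{u}
      (Tot (toPt 𝒦 ⋙ (pt n ⋙ W))) (Tot (pt n ⋙ W)) :=
  SquareMate.d (J₁ := Tot (toPt 𝒦 ⋙ (pt n ⋙ W))) (J₂ := Tot (pt n ⋙ W)) (J₃ := Tot (π ⋙ W)) (J₄ := Tot W)
    (BC (toPt 𝒦) (pt n ⋙ W)) (L₀ (𝒦 := 𝒦) W n) (BC (pt n) W) (BC π W) (wπ W n)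

instance isIso_dπ : IsIso (dπ (𝒦 := 𝒦) W n) := SquareMate.isIso_d _ _ _ _ _

/-- Inverse images commute with restriction to columns. -/
def cIso : res (pt n) W ⋙ Φ (toPt 𝒦) (βn W β n) ≅ Φ π β ⋙ res (col n) Z :=
  (Functor.associator _ _ _).symm ≪≫
    Functor.isoWhiskerRight (asIso (sπ (𝒦 := 𝒦) W n)) (pb (βn W β n)) ≪≫
    Functor.associator _ _ _ ≪≫
    Functor.isoWhiskerLeft (res π W) (asIso (cA W β n)) ≪≫ (Functor.associator _ _ _).symm

/-- Direct images commute with restriction to columns. -/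
def dIso : Φr π β ⋙ res (pt n) W ≅ res (col n) Z ⋙ Φr (toPt 𝒦) (βn W β n) :=
  Functor.associator _ _ _ ≪≫
    Functor.isoWhiskerLeft (pf β) (asIso (dπ (𝒦 := 𝒦) W n)) ≪≫
    (Functor.associator _ _ _).symm ≪≫
    Functor.isoWhiskerRight (asIso (sA W β n)) _ ≪≫ Functor.associator _ _ _

lemma rel (X : Sh W) :
    (adjΦ (toPt 𝒦) (βn W β n)).unit.app ((res (pt n) W).obj X) ≫
        (Φr (toPt 𝒦) (βn W β n)).map ((cIso W β n).hom.app X) =
      (res (pt n) W).map ((adjΦ π β).unit.app X) ≫ (dIso W β n).hom.app ((Φ π β).obj X) := by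
  let ranT := (BC (toPt 𝒦) (pt n ⋙ W)).sheafPushforwardCocontinuous AddCommGrpCat.{u}
    (Tot (toPt 𝒦 ⋙ (pt n ⋙ W))) (Tot (pt n ⋙ W))
  let uT := ((BC (toPt 𝒦) (pt n ⋙ W)).sheafAdjunctionCocontinuous AddCommGrpCat.{u}
    (Tot (toPt 𝒦 ⋙ (pt n ⋙ W))) (Tot (pt n ⋙ W))).unit
  let uB := ((BC (π (𝒦 := 𝒦)) W).sheafAdjunctionCocontinuous AddCommGrpCat.{u} (Tot (π (𝒦 := 𝒦) ⋙ W)) (Tot W)).unit
  let uK := ((TopFam.K β).sheafAdjunctionContinuous AddCommGrpCat.{u} (Tot (π ⋙ W)) (Tot Z)).unit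
  let uKn := ((TopFam.K (βn W β n)).sheafAdjunctionContinuous AddCommGrpCat.{u}
    (Tot (toPt 𝒦 ⋙ (pt n ⋙ W))) (Tot (col n ⋙ Z))).unit
  let BX := (res (π (𝒦 := 𝒦)) W).obj X
  have hc : (cIso W β n).hom.app X = (pb (βn W β n)).map ((sπ W n).app X) ≫ (cA W β n).app BX := by
    simp [cIso]
    rfl
  have hd : ∀ N, (dIso W β n).hom.app N = (dπ W n).app ((pf β).obj N) ≫ ranT.map ((sA W β n).app N) := fun N => by
    simp [dIso]
    rfl
  have e1 : uKn.app ((res (toPt 𝒦) (pt n ⋙ W)).obj ((res (pt n) W).obj X)) ≫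
      (pf (βn W β n)).map ((cIso W β n).hom.app X) =
        (sπ W n).app X ≫ ((L₀ W n).sheafPushforwardContinuous AddCommGrpCat.{u} (Tot (toPt 𝒦 ⋙ (pt n ⋙ W))) (Tot (π ⋙ W))).map (uK.app BX) ≫ (sA W β n).app ((pb β).obj BX) := by
    rw [hc, Functor.map_comp, ← Category.assoc]
    refine (congrArg (· ≫ _) (uKn.naturality ((sπ W n).app X)).symm).trans ?_
    refine (Category.assoc _ _ _).trans (congrArg ((sπ W n).app X ≫ ·) ?_)
    exact SquareMate.rel_c (J₁ := Tot (col n ⋙ π ⋙ W)) (J₂ := Tot (π ⋙ W)) (J₃ := Tot (col n ⋙ Z)) (J₄ := Tot Z)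
      (BC (col n) (π ⋙ W)) (TopFam.K (Functor.whiskerLeft (col n) β)) (TopFam.K β) (BC (col n) Z) (FamBC.w (col n) β) BX
  have e2 : uT.app ((res (pt n) W).obj X) ≫ ranT.map ((sπ W n).app X) =
      (res (pt n) W).map (uB.app X) ≫ (dπ W n).app BX := SquareMate.rel_d _ _ _ _ _ X
  show (uT.app _ ≫ ranT.map (uKn.app _)) ≫ ranT.map ((pf (βn W β n)).map ((cIso W β n).hom.app X)) =
    (res (pt n) W).map (uB.app X ≫ ((BC π W).sheafPushforwardCocontinuous AddCommGrpCat.{u} (Tot (π ⋙ W)) (Tot W)).map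
      (uK.app BX)) ≫ _
  refine (Category.assoc _ _ _).trans ?_
  refine (congrArg (uT.app _ ≫ ·) ((ranT.map_comp _ _).symm.trans ((congrArg ranT.map e1).trans
    ((ranT.map_comp _ _).trans (congrArg (_ ≫ ·) (ranT.map_comp _ _)))))).trans ?_
  refine ((Category.assoc _ _ _).symm.trans (congrArg (· ≫ _) e2)).trans ?_
  refine Eq.trans ?_ (congrArg₂ (· ≫ ·) ((res (pt n) W).map_comp _ _) (hd ((Φ π β).obj X))).symm
  refine (Category.assoc _ _ _).trans (Eq.trans ?_ (Category.assoc _ _ _).symm)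
  refine congrArg (_ ≫ ·) ?_
  refine ((Category.assoc _ _ _).symm.trans (congrArg (· ≫ _) ?_)).trans (Category.assoc _ _ _)
  exact ((dπ W n).naturality (uK.app BX)).symm

/-- A point family map which is invertible at every point is invertible. -/
lemma isIso_of_points {X Y : Sh W} (f : X ⟶ Y) (h : ∀ m : 𝒰, IsIso ((res (pt m) W).map f)) : IsIso f := by
  haveI : ∀ V : (∫ᶜ (topFam W))ᵒᵖ, IsIso (f.hom.app V) := fun V => by
    obtain ⟨⟨m, U⟩⟩ := V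
    haveI := h m
    exact inferInstanceAs (IsIso (((sheafToPresheaf (Tot (pt m ⋙ W)) AddCommGrpCat.{u}).map
      ((res (pt m) W).map f)).app (op ⟨⟨PUnit.unit⟩, U⟩)))
  haveI : IsIso f.hom := NatIso.isIso_of_isIso_app _
  haveI : IsIso ((sheafToPresheaf _ AddCommGrpCat.{u}).map f) := this
  exact isIso_of_reflects_iso f (sheafToPresheaf _ AddCommGrpCat.{u})

attribute [local instance] HasDerivedCategory.standard

/-- Descent on each column gives descent. -/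
theorem bijective
    (h : ∀ (m : 𝒰) (K L : DerivedCategory.Plus (Sh (pt m ⋙ W))),
      Function.Bijective ((Φ (toPt 𝒦) (βn W β m)).mapDerivedCategory.map : (K.obj ⟶ L.obj) → _))
    (K L : DerivedCategory.Plus (Sh W)) :
    Function.Bijective ((Φ π β).mapDerivedCategory.map : (K.obj ⟶ L.obj) → _) := by
  haveI : ∀ m : 𝒰, (res (pt m) W).Additive := fun m => {}
  haveI : ∀ m : 𝒰, (res (col (𝒦 := 𝒦) m) Z).Additive := fun m => {}
  haveI : ∀ m : 𝒰, (res (col (𝒦 := 𝒦) m) Z).PreservesInjectiveObjects := fun m => by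
    haveI := lex_pullback_col Z m
    exact Functor.preservesInjectiveObjects_of_adjunction_of_preservesMonomorphisms
      ((BC (col m) Z).sheafAdjunctionContinuous AddCommGrpCat.{u} (Tot (col m ⋙ Z)) (Tot Z))
  exact DerivedFibrewise.bijective (adjΦ π β) (fun m => adjΦ (toPt 𝒦) (βn W β m))
    (r := fun m => res (pt m) W) (r' := fun m => res (col m) Z)
    (fun m => cIso W β m) (fun m => dIso W β m) (fun m X => rel W β m X)
    (fun f hf => isIso_of_points W f hf) h K L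

end Groth.Agent.FibBi.Fibrewise
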