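import Groth.Agent.FibBi.CechBi

/-!
# Maps universally of cohomological descent
-/

set_option autoImplicit false
set_option backward.isDefEq.respectTransparency false
set_option backward.isDefEq.respectTransparency.types false
set_option linter.style.haveILetI false

universe u

open CategoryTheory CategoryTheory.Limits Opposite

noncomputable section

namespace Groth.Agent.FibBi.Univ

open CechBi DescentPt

variable {X Y S : TopCat.{u}}

lemma of_section (f : X ⟶ S) (s : S ⟶ X) (h : s ≫ f = 𝟙 S) : FibDesc.IsCohDescentMap f :=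
  FibSiteLib.CechSection.isCohDescentMap_of_section f s h

lemma of_iso {A A' : TopCat.{u}} {a : A ⟶ S} {a' : A' ⟶ S} (e : A ≅ A') (he : e.hom ≫ a' = a)
    (h : FibDesc.IsCohDescentMap a') : FibDesc.IsCohDescentMap a :=
  isCohDescentMap_iso e he h

lemma self {f : X ⟶ S} (h : FibDesc.IsUnivCohDescentMap f) : FibDesc.IsCohDescentMap f :=
  of_iso (asIso (pullback.fst f (𝟙 S))).symm (by
    rw [Iso.symm_hom, asIso_inv, IsIso.inv_comp_eq, pullback.condition, Category.comp_id]) (h S (𝟙 S))

lemma baseChange {f : X ⟶ S} (h : FibDesc.IsUnivCohDescentMap f) {S' : TopCat.{u}} (g : S' ⟶ S) :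
    FibDesc.IsUnivCohDescentMap (pullback.snd f g) := fun T g' =>
  of_iso (pullbackLeftPullbackSndIso f g g') (pullbackLeftPullbackSndIso_hom_snd f g g') (h T (g' ≫ g))

/-- A factor of a map universally of cohomological descent is of cohomological descent. -/
theorem of_comp (f : X ⟶ Y) (g : Y ⟶ S) (h : FibDesc.IsUnivCohDescentMap (f ≫ g)) :
    FibDesc.IsCohDescentMap g := by
  refine core g (f ≫ g) (self h) (fun k => h _ _) fun n => ?_
  refine of_section _ (pullback.lift (P (f ≫ g) n 0 ≫ f) (𝟙 _) ?_) (pullback.lift_snd _ _ _)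
  rw [Category.assoc, P_arrow, Category.id_comp]

/-- A factor of a map universally of cohomological descent is universally so. -/
theorem univ_of_comp (f : X ⟶ Y) (g : Y ⟶ S) (h : FibDesc.IsUnivCohDescentMap (f ≫ g)) :
    FibDesc.IsUnivCohDescentMap g := by
  intro T t
  let f' : pullback (f ≫ g) t ⟶ pullback g t :=
    pullback.lift (pullback.fst _ _ ≫ f) (pullback.snd _ _) (by rw [Category.assoc]; exact pullback.condition)
  refine of_comp f' _ ?_
  rw [pullback.lift_snd]
  exact baseChange h t

/-- Universal cohomological descent can be checked after a universally descending base change. -/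
theorem iff_baseChange {S' : TopCat.{u}} (f : X ⟶ S) (g : S' ⟶ S) (hg : FibDesc.IsUnivCohDescentMap g) :
    FibDesc.IsUnivCohDescentMap f ↔ FibDesc.IsUnivCohDescentMap (pullback.snd f g) := by
  refine ⟨fun h => baseChange h g, fun h T t => ?_⟩
  have hgT := baseChange hg t
  refine core _ (pullback.snd g t) (hg T t) (fun k => hgT _ _) fun n => ?_
  let q := P (pullback.snd g t) n 0 ≫ pullback.fst g t
  have hq : (aug (pullback.snd g t)).app n ≫ t = q ≫ g := by
    rw [← P_arrow (pullback.snd g t) n 0, Category.assoc, ← pullback.condition, Category.assoc]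
  refine of_iso
    (pullbackLeftPullbackSndIso f t ((aug (pullback.snd g t)).app n) ≪≫ pullback.congrHom rfl hq ≪≫
      (pullbackLeftPullbackSndIso f g q).symm) ?_ (h _ q)
  rw [Iso.trans_hom, Iso.trans_hom, Category.assoc, Category.assoc, Iso.symm_hom,
    ← pullbackLeftPullbackSndIso_hom_snd f g q, Iso.inv_hom_id_assoc]
  simp [pullback.congrHom_hom]

/-- A composite with a second factor having a section is of cohomological descent. -/
lemma comp_of_section {f : X ⟶ Y} (hf : FibDesc.IsUnivCohDescentMap f) (g : Y ⟶ S) (s : S ⟶ Y)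
    (hs : s ≫ g = 𝟙 S) : FibDesc.IsCohDescentMap (f ≫ g) := by
  refine of_comp (pullback.fst f s) (f ≫ g) ?_
  rw [← Category.assoc, pullback.condition, Category.assoc, hs, Category.comp_id]
  exact baseChange hf s

/-- Composites. -/
theorem comp_self {f : X ⟶ Y} {g : Y ⟶ S} (hf : FibDesc.IsUnivCohDescentMap f)
    (hg : FibDesc.IsUnivCohDescentMap g) : FibDesc.IsCohDescentMap (f ≫ g) := by
  refine core (f ≫ g) g (self hg) (fun k => hg _ _) fun n => ?_
  let a := (aug g).app n
  let i := pullbackLeftPullbackSndIso g a (𝟙 _)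
  refine of_iso (pullbackRightPullbackFstIso g a f).symm ?_
    (comp_of_section (f := pullback.snd f (pullback.fst g a)) (baseChange hf _) (pullback.snd g a)
      (pullback.lift (P g n 0) (𝟙 _) (by rw [P_arrow, Category.id_comp])) (pullback.lift_snd _ _ _))
  simp [a]

/-- Composites, universally. -/
theorem univ_comp {f : X ⟶ Y} {g : Y ⟶ S} (hf : FibDesc.IsUnivCohDescentMap f)
    (hg : FibDesc.IsUnivCohDescentMap g) : FibDesc.IsUnivCohDescentMap (f ≫ g) := fun T t =>
  of_iso (pullbackRightPullbackFstIso g t f).symm (by simp)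
    (comp_self (baseChange hf (pullback.fst g t)) (baseChange hg t))

/-- Maps fitting in a cartesian square. -/
lemma of_isPullback {P X' : TopCat.{u}} {t : P ⟶ X} {l : P ⟶ X'} {f : X ⟶ S} {b : X' ⟶ S}
    (h : IsPullback t l f b) (hf : FibDesc.IsUnivCohDescentMap f) : FibDesc.IsUnivCohDescentMap l := by
  intro T g
  have h1 : l = h.isoPullback.hom ≫ pullback.snd f b := h.isoPullback_hom_snd.symm
  let h2 := baseChange hf b
  let e : pullback l g ≅ pullback (pullback.snd f b) g :=
    asIso (pullback.map l g (pullback.snd f b) g h.isoPullback.hom (𝟙 _) (𝟙 _) (by simp [← h1]) (by simp))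
  refine of_iso e (by simp [e]) (h2 T g)

/-- Products. -/
theorem univ_map {X' Y' : TopCat.{u}} (pX : X' ⟶ S) (pY : Y' ⟶ S) {A B : TopCat.{u}} (f : A ⟶ X') (g : B ⟶ Y')
    (hf : FibDesc.IsUnivCohDescentMap f) (hg : FibDesc.IsUnivCohDescentMap g) :
    FibDesc.IsUnivCohDescentMap
      (pullback.map (f ≫ pX) (g ≫ pY) pX pY f g (𝟙 S) (Category.comp_id _) (Category.comp_id _)) := by
  let l₁ : pullback (f ≫ pX) (g ≫ pY) ⟶ pullback pX (g ≫ pY) :=
    pullback.lift (pullback.fst _ _ ≫ f) (pullback.snd _ _) (by rw [Category.assoc]; exact pullback.condition)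
  let l₂ : pullback pX (g ≫ pY) ⟶ pullback pX pY :=
    pullback.lift (pullback.fst _ _) (pullback.snd _ _ ≫ g) (by rw [Category.assoc]; exact pullback.condition)
  have e : pullback.map (f ≫ pX) (g ≫ pY) pX pY f g (𝟙 S) (Category.comp_id _) (Category.comp_id _) = l₁ ≫ l₂ := by
    refine pullback.hom_ext ?_ ?_ <;> simp [l₁, l₂]
  rw [e]
  refine univ_comp (of_isPullback (t := pullback.fst (f ≫ pX) (g ≫ pY)) (b := pullback.fst pX (g ≫ pY)) ?_ hf)
    (of_isPullback (t := pullback.snd pX (g ≫ pY)) (b := pullback.snd pX pY) ?_ hg)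
  · refine (IsPullback.of_right (h₁₁ := l₁) (v₁₁ := pullback.fst (f ≫ pX) (g ≫ pY)) (h₂₁ := f) ?_ (by simp [l₁])
      (IsPullback.of_hasPullback pX (g ≫ pY)).flip).flip
    rw [pullback.lift_snd]
    exact (IsPullback.of_hasPullback (f ≫ pX) (g ≫ pY)).flip
  · refine (IsPullback.of_right (h₁₁ := l₂) (v₁₁ := pullback.snd pX (g ≫ pY)) (h₂₁ := g) ?_ (by simp [l₂])
      (IsPullback.of_hasPullback pX pY)).flip
    rw [pullback.lift_fst]
    exact IsPullback.of_hasPullback pX (g ≫ pY)

end Groth.Agent.FibBi.Univ
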